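import Groth.Agent.ARSysLib.ARAdic
import Groth.Agent.NoethObj
import Mathlib.CategoryTheory.Subobject.ArtinianObject

/-!
# Extensions of systems which are `J`-adic up to translation
-/

set_option autoImplicit false
set_option linter.style.haveILetI false

universe w v u

open CategoryTheory CategoryTheory.Limits Opposite ARSys

namespace Groth.Agent.ARSysLib

variable {C : Type u} [Category.{v} C] [Abelian C]

theorem exists_lift_of_exact {S : ShortComplex (PS C)} (hS : S.Exact) (k : ℕᵒᵖ) {P : C}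
    (x : P ⟶ S.X₂.obj k) (hx : x ≫ S.g.app k = 0) :
    ∃ (P' : C) (π : P' ⟶ P) (_ : Epi π) (l : P' ⟶ S.X₁.obj k), π ≫ x = l ≫ S.f.app k :=
  (hS.map ((evaluation ℕᵒᵖ C).obj k)).exact_up_to_refinements x hx

theorem exists_desc_of_exact {S : ShortComplex (PS C)} (hS : S.Exact) [Epi S.g] (k : ℕᵒᵖ) {W : C}
    (φ : S.X₂.obj k ⟶ W) (hφ : S.f.app k ≫ φ = 0) : ∃ χ, S.g.app k ≫ χ = φ := by
  have hex := hS.map ((evaluation ℕᵒᵖ C).obj k)
  haveI : Epi (S.map ((evaluation ℕᵒᵖ C).obj k)).g := ((evaluation ℕᵒᵖ C).obj k).map_epi S.g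
  exact ⟨hex.desc φ hφ, hex.g_desc φ hφ⟩

theorem comp_app_zero {X Y Z : PS C} {f : X ⟶ Y} {g : Y ⟶ Z} (h : f ≫ g = 0) (k : ℕᵒᵖ) :
    f.app k ≫ g.app k = 0 := by
  rw [← NatTrans.comp_app, h, zero_app]

variable {A : Type w} [CommRing A] [IsNoetherianRing A] [Linear A C]

/-- The core extension result. -/
theorem isARAdic_of_exact {J : Ideal A} {T X Y Z : PS C} (a : T ⟶ X) (b : X ⟶ Y) (c : Y ⟶ Z)
    [Epi c] (wab : a ≫ b = 0) (wbc : b ≫ c = 0) (hab : (ShortComplex.mk a b wab).Exact)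
    (hbc : (ShortComplex.mk b c wbc).Exact) (hT : IsARNull T) (hX : IsAdic J X)
    [∀ n, IsArtinianObject (X.obj (op n))] (hY : TermKilled J Y) (hZ : IsAdic J Z) :
    IsARAdic J Y := by
  have hJ : J.FG ∨ HasCoproducts.{w} C := Or.inl (IsNoetherian.noetherian J)
  haveI : ∀ k, Epi (c.app k) := fun k => ((evaluation ℕᵒᵖ C).obj k).map_epi c
  have hYs : IsStrict Y := by
    intro n m h
    haveI := isStrict_of_isAdic hX n m h
    haveI := isStrict_of_isAdic hZ n m h
    rw [epi_iff_surjective_up_to_refinements]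
    intro P y
    obtain ⟨P', π, hπ, z, hz⟩ :=
      surjective_up_to_refinements_of_epi (c.app (op m) ≫ tr Z h) (y ≫ c.app (op n))
    rw [← tr_app] at hz
    obtain ⟨P₁, π₁, hπ₁, l, hl⟩ := exists_lift_of_exact hbc (op n) (π ≫ y - z ≫ tr Y h) (by
      show (π ≫ y - z ≫ tr Y h) ≫ c.app (op n) = 0
      rw [Preadditive.sub_comp, Category.assoc, Category.assoc, hz, sub_self])
    have hl' : π₁ ≫ (π ≫ y - z ≫ tr Y h) = l ≫ b.app (op n) := hl
    obtain ⟨P₂, π₂, hπ₂, x, hx⟩ := surjective_up_to_refinements_of_epi (tr X h) l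
    refine ⟨P₂, π₂ ≫ π₁ ≫ π, inferInstance, x ≫ b.app (op m) + π₂ ≫ π₁ ≫ z, ?_⟩
    rw [Preadditive.add_comp, Category.assoc x, ← tr_app, ← reassoc_of% hx, ← hl']
    simp only [Category.assoc, Preadditive.comp_sub]
    abel
  have cnat : ∀ {n m : ℕ} (h : n ≤ m), tr Y h ≫ c.app (op n) = c.app (op m) ≫ tr Z h :=
    fun h => tr_app c h
  have hQ : ∀ (k m : ℕ), ∃ (Q : C) (q : Y.obj (op m) ⟶ Q), IsQuot (J ^ (k + 1)) q :=
    fun k m => exists_isQuot J hJ (k + 1) _
  choose Q q hq using hQ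
  haveI : ∀ k m, Epi (q k m) := fun k m => epi_of_isQuot (hq k m)
  have hα : ∀ (k d : ℕ), ∃ α : X.obj (op k) ⟶ Q k (k + d),
      tr X (Nat.le_add_right k d) ≫ α = b.app (op (k + d)) ≫ q k (k + d) := fun k d =>
    isQuot_factor (hX.2 k (k + d) (Nat.le_add_right k d)) _
      (homKilled_of_killed (hq k (k + d)).1 _)
  choose α hα using hα
  have ht : ∀ (k d e : ℕ) (h : d ≤ e), ∃ t : Q k (k + e) ⟶ Q k (k + d),
      q k (k + e) ≫ t = tr Y (Nat.add_le_add_left h k) ≫ q k (k + d) := fun k d e h =>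
    isQuot_factor (hq k (k + e)) _ (homKilled_of_killed (hq k (k + d)).1 _)
  choose t ht using ht
  have hαt : ∀ (k d e : ℕ) (h : d ≤ e), α k e ≫ t k d e h = α k d := by
    intro k d e h
    haveI := isStrict_of_isAdic hX k (k + e) (Nat.le_add_right k e)
    rw [← cancel_epi (tr X (Nat.le_add_right k e)), reassoc_of% (hα k e), ht k d e h,
      ← reassoc_of% (tr_app b (Nat.add_le_add_left h k)), ← hα k d, reassoc_of% (tr_tr X)]
  have hg : ∀ (k d : ℕ), ∃ g : Q k (k + d) ⟶ Z.obj (op k),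
      q k (k + d) ≫ g = tr Y (Nat.le_add_right k d) ≫ c.app (op k) := fun k d =>
    isQuot_factor (hq k (k + d)) _ (homKilled_of_killed (hZ.1 k) _)
  choose g hg using hg
  have exQ : ∀ (k d : ℕ) {P : C} (x : P ⟶ Q k (k + d)), x ≫ g k d = 0 →
      ImLE x (α k d) := by
    intro k d P x hx
    refine imLE_of_cokernel ?_
    obtain ⟨χ, hχ⟩ := exists_desc_of_exact hbc (op (k + d)) (q k (k + d) ≫ cokernel.π (α k d)) (by
      show b.app (op (k + d)) ≫ q k (k + d) ≫ cokernel.π (α k d) = 0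
      rw [← reassoc_of% (hα k d), cokernel.condition, comp_zero])
    have hχ' : c.app (op (k + d)) ≫ χ = q k (k + d) ≫ cokernel.π (α k d) := hχ
    obtain ⟨ψ, hψ⟩ := isQuot_factor (hZ.2 k (k + d) (Nat.le_add_right k d)) χ
      (homKilled_of_epi (c.app (op (k + d))) (by
        rw [hχ']; exact HomKilled.comp' (homKilled_of_killed (hq k (k + d)).1 _) _))
    have e : g k d ≫ ψ = cokernel.π (α k d) := by
      rw [← cancel_epi (q k (k + d)), reassoc_of% (hg k d), reassoc_of% (cnat _), hψ, hχ']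
    rw [← e, reassoc_of% hx, zero_comp]
  have hgt : ∀ (k d e : ℕ) (h : d ≤ e), t k d e h ≫ g k d = g k e := by
    intro k d e h
    rw [← cancel_epi (q k (k + e)), reassoc_of% (ht k d e h), hg k d, hg k e,
      reassoc_of% (tr_tr Y)]
  have stab : ∀ k, ∃ D, ∀ d (h : D ≤ d), IsIso (t k D d h) := by
    intro k
    have hanti : ∀ {d e : ℕ}, d ≤ e → kernelSubobject (α k e) ≤ kernelSubobject (α k d) := by
      intro d e h
      rw [← hαt k d e h]
      exact kernelSubobject_comp_le _ _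
    obtain ⟨D, hD⟩ := antitone_chain_condition_of_isArtinianObject (X := X.obj (op k))
      ⟨fun d => OrderDual.toDual (kernelSubobject (α k d)), fun d e h => hanti h⟩
    refine ⟨D, fun d h => ?_⟩
    haveI : Epi (t k D d h) := by
      haveI := hYs (k + D) (k + d) (Nat.add_le_add_left h k)
      haveI : Epi (q k (k + d) ≫ t k D d h) := by rw [ht]; infer_instance
      exact epi_of_epi (q k (k + d)) _
    haveI : Mono (t k D d h) := by
      refine Preadditive.mono_of_cancel_zero _ fun {P} x hx => ?_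
      obtain ⟨P', π, hπ, y, hy⟩ := exQ k d x (by rw [← hgt k D d h, reassoc_of% hx, zero_comp])
      have h0 : y ≫ α k D = 0 := by
        rw [← hαt k D d h, ← reassoc_of% hy, hx, comp_zero]
      have e : kernelSubobject (α k D) = kernelSubobject (α k d) :=
        congrArg OrderDual.ofDual (hD d h)
      rw [← cancel_epi π, comp_zero, hy, ← factorThruKernelSubobject_comp_arrow (α k D) y h0,
        ← Subobject.ofLE_arrow e.le, Category.assoc, Category.assoc, kernelSubobject_arrow_comp,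
        comp_zero, comp_zero]
    exact isIso_of_mono_of_epi _
  choose D hD using stab
  let E : ℕ → ℕ := fun k => (Finset.range (k + 1)).sup D
  have hDE : ∀ k, D k ≤ E k := fun k => Finset.le_sup (f := D) (Finset.mem_range.mpr (Nat.lt_succ_self k))
  let M : ℕ → ℕ := fun k => k + E k
  have hM : ∀ {i j : ℕ}, i ≤ j → M i ≤ M j := fun h => Nat.add_le_add h
    (Finset.sup_mono (Finset.range_mono (Nat.succ_le_succ h)))
  have fac : ∀ (k m : ℕ) (hm : M k ≤ m) (W : C) (φ : Y.obj (op m) ⟶ W),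
      HomKilledBy (J ^ (k + 1)) φ → ∃ χ, tr Y hm ≫ χ = φ := by
    intro k m hm W φ hφ
    obtain ⟨d, rfl⟩ := Nat.exists_eq_add_of_le ((Nat.le_add_right k _).trans hm)
    have hd : E k ≤ d := Nat.le_of_add_le_add_left hm
    obtain ⟨ψ, hψ⟩ := isQuot_factor (hq k (k + d)) φ hφ
    haveI := hD k d ((hDE k).trans hd)
    refine ⟨tr Y (Nat.add_le_add_left (hDE k) k) ≫ q k (k + D k) ≫
      inv (t k (D k) d ((hDE k).trans hd)) ≫ ψ, ?_⟩
    rw [reassoc_of% (tr_tr Y), ← reassoc_of% (ht k (D k) d ((hDE k).trans hd)),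
      IsIso.hom_inv_id_assoc, hψ]
  have hT' : ∀ (i j : ℕ) (h : i ≤ j), ∃ s : Q j (M j) ⟶ Q i (M i),
      q j (M j) ≫ s = tr Y (hM h) ≫ q i (M i) := fun i j h =>
    isQuot_factor (hq j (M j)) _ (homKilled_mono (Ideal.pow_le_pow_right (by omega))
      (homKilled_of_killed (hq i (M i)).1 _))
  choose s hs using hT'
  have hss : ∀ (i j l : ℕ) (h : i ≤ j) (h' : j ≤ l), s j l h' ≫ s i j h = s i l (h.trans h') :=
    fun i j l h h' => by
      rw [← cancel_epi (q l (M l)), reassoc_of% (hs j l h'), hs i j h, reassoc_of% (tr_tr Y), hs]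
  let Y' : PS C :=
    { obj := fun n => Q n.unop (M n.unop)
      map := fun {i j} f => s j.unop i.unop (leOfHom f.unop)
      map_id := fun i => by rw [← cancel_epi (q i.unop (M i.unop)), hs, tr_self, Category.id_comp,
        Category.comp_id]
      map_comp := fun f g => (hss _ _ _ _ _).symm }
  have hY' : IsAdic J Y' := by
    refine ⟨fun n => (hq n (M n)).1, fun n m h => ?_⟩
    haveI := hYs (M n) (M m) (hM h)
    haveI : Epi (s n m h) := by
      haveI : Epi (q m (M m) ≫ s n m h) := by rw [hs]; infer_instance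
      exact epi_of_epi (q m (M m)) _
    refine isQuot_of_epi (s n m h) (hq n (M n)).1 fun W φ hφ => ?_
    obtain ⟨χ, hχ⟩ := fac n (M m) (hM h) W (q m (M m) ≫ φ) (HomKilled.comp hφ _)
    obtain ⟨ψ, hψ⟩ := isQuot_factor (hq n (M n)) χ
      (homKilled_of_epi (tr Y (hM h)) (by rw [hχ]; exact HomKilled.comp hφ _))
    exact ⟨ψ, by rw [← cancel_epi (q m (M m)), reassoc_of% (hs n m h), hψ, hχ]⟩
  choose u hu using fun k =>
    isQuot_factor (hq k (M k)) (tr Y (Nat.le_add_right k (E k))) (homKilled_of_killed (hY k) _)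
  have unat : ∀ {i j : ℕ} (h : i ≤ j), s i j h ≫ u i = u j ≫ tr Y h := fun {i j} h => by
    rw [← cancel_epi (q j (M j)), reassoc_of% (hs i j h), hu i, reassoc_of% (hu j), tr_tr, tr_tr]
  let U : Y' ⟶ Y :=
    { app := fun n => u n.unop, naturality := fun i j f => unat (leOfHom f.unop) }
  refine ⟨hY, Y', U, hY', (isARIso_iff U).mpr ?_⟩
  obtain ⟨r, hr⟩ := (isARNull_iff T).mp hT
  refine ⟨⟨r, fun n P x hx => ?_⟩, ⟨0, fun n => ?_⟩⟩
  · have hx' : x ≫ u (n + r) = 0 := hx
    have hgu : g (n + r) (E (n + r)) = u (n + r) ≫ c.app (op (n + r)) := by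
      rw [← cancel_epi (q (n + r) (n + r + E (n + r))), hg]
      exact (congrArg (· ≫ c.app (op (n + r))) (hu (n + r))).symm.trans (Category.assoc _ _ _)
    obtain ⟨P', π, hπ, y, hy⟩ := exQ (n + r) (E (n + r)) x (by
      rw [hgu, reassoc_of% hx', zero_comp])
    have hαu : α (n + r) (E (n + r)) ≫ u (n + r) = b.app (op (n + r)) := by
      haveI := isStrict_of_isAdic hX (n + r) (n + r + E (n + r)) (Nat.le_add_right _ _)
      rw [← cancel_epi (tr X (Nat.le_add_right (n + r) (E (n + r)))), reassoc_of% (hα _ _)]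
      exact (congrArg (b.app _ ≫ ·) (hu (n + r))).trans (tr_app b _).symm
    obtain ⟨P₁, π₁, hπ₁, z, hz⟩ := exists_lift_of_exact hab (op (n + r)) y (by
      show y ≫ b.app (op (n + r)) = 0
      rw [← hαu, ← reassoc_of% hy, hx', comp_zero])
    have hz' : π₁ ≫ y = z ≫ a.app (op (n + r)) := hz
    have h0 : π₁ ≫ y ≫ sm X r n = 0 := by
      rw [reassoc_of% hz', ← sm_app a r n, hr n, zero_comp, comp_zero]
    have hαs : α (n + r) (E (n + r)) ≫ s n (n + r) (Nat.le_add_right n r) =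
        sm X r n ≫ α n (E n) := by
      haveI := isStrict_of_isAdic hX (n + r) (n + r + E (n + r)) (Nat.le_add_right _ _)
      rw [← cancel_epi (tr X (Nat.le_add_right (n + r) (E (n + r)))), reassoc_of% (hα _ _),
        hs n (n + r), ← reassoc_of% (tr_app b (hM (Nat.le_add_right n r))), ← hα n (E n),
        reassoc_of% (tr_tr X), reassoc_of% (tr_tr X)]
    show x ≫ s n (n + r) (Nat.le_add_right n r) = 0
    rw [← cancel_epi (π₁ ≫ π), comp_zero, Category.assoc, reassoc_of% hy, hαs,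
      reassoc_of% h0, zero_comp]
  · haveI : Epi (u n) := by
      haveI := hYs n (M n) (Nat.le_add_right n (E n))
      haveI : Epi (q n (M n) ≫ u n) := by rw [hu]; infer_instance
      exact epi_of_epi (q n (M n)) _
    obtain ⟨P, π, hπ, y, hy⟩ := surjective_up_to_refinements_of_epi (u n) (sm Y 0 n)
    exact ⟨P, π, hπ, y, hy⟩

theorem isARIso_comp {X Y Z : PS C} (u : X ⟶ Y) (v : Y ⟶ Z) (hu : IsARIso u) (hv : IsARIso v) :
    IsARIso (u ≫ v) := by
  obtain ⟨⟨a, ha⟩, ⟨b, hb⟩⟩ := (isARIso_iff u).mp hu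
  obtain ⟨⟨a', ha'⟩, ⟨b', hb'⟩⟩ := (isARIso_iff v).mp hv
  refine (isARIso_iff _).mpr ⟨⟨a' + a, fun n P x hx => ?_⟩, ⟨b + b', fun n => ?_⟩⟩
  · have h1 : (x ≫ tr X (show n + a' ≤ n + (a' + a) by omega)) ≫ sm X a' n = 0 := by
      have h2 : x ≫ tr X (show n + a ≤ n + (a' + a) by omega) ≫ sm X a n =
          x ≫ sm X (a' + a) n := by rw [tr_tr]
      have h3 : (x ≫ u.app (op (n + (a' + a)))) ≫
          tr Y (show n + a + a' ≤ n + (a' + a) by omega) ≫ sm Y a' (n + a) = 0 := by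
        rw [← Category.assoc]
        refine ha' (n + a) P _ ?_
        rw [Category.assoc, Category.assoc, tr_app v]
        have : x ≫ u.app (op (n + (a' + a))) ≫ v.app (op (n + (a' + a))) = 0 := hx
        rw [reassoc_of% this, zero_comp]
      rw [tr_tr, Category.assoc, ← tr_app] at h3
      rw [Category.assoc, tr_tr, ← h2, ← Category.assoc]
      exact ha n P _ (by rw [Category.assoc]; exact h3)
    rwa [Category.assoc, tr_tr] at h1
  · obtain ⟨P, π, hπ, y, hy⟩ := (hb' (n + b)).comp_left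
      (tr Z (show n + b + b' ≤ n + (b + b') by omega))
    obtain ⟨P', π', hπ', z, hz⟩ := (hb n).comp_left y
    refine ⟨P', π' ≫ π, inferInstance, z, ?_⟩
    rw [tr_tr] at hy
    rw [NatTrans.comp_app, ← reassoc_of% hz, sm_app, ← reassoc_of% hy, tr_tr, Category.assoc]

omit [IsNoetherianRing A] in
theorem artinian_of_isARIso {J : Ideal A} {X X' : PS C} (u : X' ⟶ X) (hu : IsARIso u)
    (hX' : IsAdic J X') (hX : ∀ n, IsArtinianObject (X.obj (op n))) (n : ℕ) :
    IsArtinianObject (X'.obj (op n)) := by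
  obtain ⟨r, w, h₁, -⟩ := exists_inverse u hu
  haveI : Epi (u.app (op (n + r)) ≫ w.app (op n)) := by
    rw [h₁ n]; exact isStrict_of_isAdic hX' _ _ _
  haveI : Epi (w.app (op n)) := epi_of_epi (u.app (op (n + r))) _
  haveI : IsArtinianObject (((shift C r).obj X).obj (op n)) := hX (n + r)
  exact NoethObj.isArtinian_of_epi (w.app (op n))

theorem isARAdic_X₂ {J : Ideal A} {S : ShortComplex (PS C)} (hS : S.ShortExact)
    (k₂ : TermKilled J S.X₂) (h₁ : IsARAdicArt J S.X₁) (h₃ : IsARAdic J S.X₃) :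
    IsARAdic J S.X₂ := by
  obtain ⟨⟨-, X', u₁, hX', hu₁⟩, hart⟩ := h₁
  obtain ⟨-, Z', u₃, hZ', hu₃⟩ := h₃
  haveI := artinian_of_isARIso u₁ hu₁ hX' hart
  haveI := fun k => mono_app hS k
  haveI := fun k => epi_app hS k
  let i : X' ⟶ S.X₂ := u₁ ≫ S.f
  have hig : i ≫ S.g = 0 := by simp [i]
  let e : cokernel i ⟶ S.X₃ := cokernel.desc i S.g hig
  haveI : ∀ k, Epi ((cokernel.π i).app k) := fun k =>
    ((evaluation ℕᵒᵖ C).obj k).map_epi (cokernel.π i)
  have he : ∀ k, (cokernel.π i).app k ≫ e.app k = S.g.app k := fun k =>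
    congrArg (fun m => NatTrans.app m k) (cokernel.π_desc i S.g hig)
  obtain ⟨⟨a₁, ha₁⟩, ⟨b₁, hb₁⟩⟩ := (isARIso_iff u₁).mp hu₁
  have hei : ∀ k, i.app k ≫ (cokernel.π i).app k = 0 := comp_app_zero (cokernel.condition i)
  have heker : ∀ (n : ℕ) (P : C) (x : P ⟶ (cokernel i).obj (op (n + b₁))),
      x ≫ e.app (op (n + b₁)) = 0 → x ≫ sm (cokernel i) b₁ n = 0 := by
    intro n P x hx
    obtain ⟨P', π, hπ, y, hy⟩ :=
      surjective_up_to_refinements_of_epi ((cokernel.π i).app (op (n + b₁))) x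
    obtain ⟨l, hl⟩ := exists_lift hS (op (n + b₁)) y (by
      rw [← he, ← reassoc_of% hy, hx, comp_zero])
    obtain ⟨P'', π', hπ', z, hz⟩ := (hb₁ n).comp_left l
    rw [← cancel_epi (π' ≫ π), comp_zero, Category.assoc, reassoc_of% hy, ← sm_app, ← hl,
      Category.assoc, ← reassoc_of% (sm_app S.f b₁ n), reassoc_of% hz]
    have : u₁.app (op n) ≫ S.f.app (op n) ≫ (cokernel.π i).app (op n) = 0 := by
      rw [← Category.assoc]; exact hei (op n)
    rw [this, comp_zero]
  have hecok : ∀ n, ImLE (sm S.X₃ 0 n) (e.app (op n)) := fun n => by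
    obtain ⟨P, π, hπ, y, hy⟩ :=
      surjective_up_to_refinements_of_epi (S.g.app (op n)) (sm S.X₃ 0 n)
    exact ⟨P, π, hπ, y ≫ (cokernel.π i).app (op n), by rw [hy, Category.assoc, he]⟩
  have heiso : IsARIso e := (isARIso_iff e).mpr ⟨⟨b₁, heker⟩, ⟨0, hecok⟩⟩
  have kE : TermKilled J (cokernel i) := fun n =>
    killedBy_of_epi ((cokernel.π i).app (op n)) (k₂ n)
  obtain ⟨r, w, -, hw⟩ := exists_inverse e heiso
  obtain ⟨u, hu, -⟩ := existsUnique_of_shift hZ' kE r ((shift C r).map u₃ ≫ w)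
  have hue : u ≫ e = u₃ := by
    ext ⟨n⟩
    haveI := isStrict_of_isAdic hZ' n (n + r) (Nat.le_add_right n r)
    rw [← cancel_epi (sm Z' r n), NatTrans.comp_app, ← Category.assoc, ← hu n]
    exact (Category.assoc _ _ _).trans ((congrArg (_ ≫ ·) (hw n)).trans (sm_app u₃ r n).symm)
  have huiso : IsARIso u := by
    obtain ⟨⟨a₃, ha₃⟩, ⟨b₃, hb₃⟩⟩ := (isARIso_iff u₃).mp hu₃
    refine (isARIso_iff u).mpr ⟨⟨a₃, fun n P x hx => ha₃ n P x ?_⟩, ⟨b₁ + b₃, fun n => ?_⟩⟩
    · rw [← hue, NatTrans.comp_app, reassoc_of% hx, zero_comp]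
    · let h₁' : n + b₁ + b₃ ≤ n + (b₁ + b₃) := by omega
      obtain ⟨P, π, hπ, z, hz⟩ := (hb₃ (n + b₁)).comp_left
        (tr (cokernel i) h₁' ≫ e.app (op (n + b₁ + b₃)))
      let d := π ≫ tr (cokernel i) h₁' ≫ sm (cokernel i) b₃ (n + b₁) - z ≫ u.app (op (n + b₁))
      have hd : d ≫ sm (cokernel i) b₁ n = 0 := heker n _ d (by
        simp only [d, Preadditive.sub_comp, Category.assoc] at hz ⊢
        rw [sm_app, hz, ← hue, NatTrans.comp_app, sub_self])
      refine ⟨P, π, hπ, z ≫ sm Z' b₁ n, ?_⟩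
      simp only [d, Preadditive.sub_comp, Category.assoc, sub_eq_zero, tr_tr] at hd
      rw [Category.assoc, sm_app, ← hd]
  let p₁ : pullback (cokernel.π i) u ⟶ S.X₂ := pullback.fst _ _
  let c : pullback (cokernel.π i) u ⟶ Z' := pullback.snd _ _
  let b : X' ⟶ pullback (cokernel.π i) u :=
    pullback.lift i 0 (by rw [cokernel.condition, zero_comp])
  have hjoint : ∀ (k : ℕᵒᵖ) {P : C} (x y : P ⟶ (pullback (cokernel.π i) u).obj k),
      x ≫ p₁.app k = y ≫ p₁.app k → x ≫ c.app k = y ≫ c.app k → x = y :=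
    fun k P x y h h' => ((IsPullback.of_hasPullback (cokernel.π i) u).map
      ((evaluation ℕᵒᵖ C).obj k)).hom_ext h h'
  have hsq : ∀ k : ℕᵒᵖ, IsPullback (p₁.app k) (c.app k) ((cokernel.π i).app k) (u.app k) := fun k =>
    (IsPullback.of_hasPullback (cokernel.π i) u).map ((evaluation ℕᵒᵖ C).obj k)
  have wbc : b ≫ c = 0 := pullback.lift_snd _ _ _
  have wab : kernel.ι i ≫ b = 0 := by
    apply pullback.hom_ext
    · rw [Category.assoc, pullback.lift_fst, kernel.condition, zero_comp]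
    · rw [Category.assoc, pullback.lift_snd, comp_zero, zero_comp]
  have hab : (ShortComplex.mk (kernel.ι i) b wab).Exact := by
    refine ShortComplex.exact_of_f_is_kernel _ (KernelFork.IsLimit.ofι' _ _ fun {W} k hk => ?_)
    have hk' : k ≫ i = 0 := by
      have := hk =≫ p₁
      rwa [Category.assoc, pullback.lift_fst, zero_comp] at this
    exact ⟨kernel.lift i k hk', kernel.lift_ι _ _ _⟩
  have hbc : (ShortComplex.mk b c wbc).Exact := by
    rw [ShortComplex.exact_iff_exact_up_to_refinements]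
    intro W x hx
    have hx' : (x ≫ p₁) ≫ cokernel.π i = 0 := by
      rw [Category.assoc, pullback.condition, ← Category.assoc]
      exact (congrArg (· ≫ u) hx).trans zero_comp
    obtain ⟨W', π, hπ, y, hy⟩ := (ShortComplex.exact_of_g_is_cokernel
      (ShortComplex.mk i (cokernel.π i) (cokernel.condition i))
      (cokernelIsCokernel i)).exact_up_to_refinements (x ≫ p₁) hx'
    refine ⟨W', π, hπ, y, pullback.hom_ext ?_ ?_⟩
    · rw [Category.assoc, Category.assoc, pullback.lift_fst]; exact hy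
    · rw [Category.assoc, Category.assoc]
      exact (congrArg (π ≫ ·) hx).trans (by rw [comp_zero, pullback.lift_snd, comp_zero])
  have hT : IsARNull (kernel i) := by
    refine (isARNull_kernel_iff i).mpr ⟨a₁, fun n P x hx => ha₁ n P x ?_⟩
    rw [← cancel_mono (S.f.app (op (n + a₁))), zero_comp, Category.assoc]
    exact hx
  have kY' : TermKilled J (pullback (cokernel.π i) u) := fun n r hr => by
    refine hjoint (op n) _ _ ?_ ?_
    · rw [Linear.smul_comp, Category.id_comp, zero_comp]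
      exact homKilled_of_killed (k₂ n) _ r hr
    · rw [Linear.smul_comp, Category.id_comp, zero_comp]
      exact homKilled_of_killed (hZ'.1 n) _ r hr
  obtain ⟨-, Y'', v, hY'', hv⟩ := isARAdic_of_exact (kernel.ι i) b c wab wbc hab hbc hT hX' kY' hZ'
  refine ⟨k₂, Y'', v ≫ p₁, hY'', isARIso_comp v p₁ hv ?_⟩
  obtain ⟨⟨au, hau⟩, ⟨bu, hbu⟩⟩ := (isARIso_iff u).mp huiso
  refine (isARIso_iff p₁).mpr ⟨⟨au, fun n P x hx => ?_⟩, ⟨bu, fun n => ?_⟩⟩
  · refine hjoint (op n) _ _ ?_ ?_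
    · rw [Category.assoc, sm_app, reassoc_of% hx, zero_comp, zero_comp]
    · rw [Category.assoc, sm_app, zero_comp, ← Category.assoc]
      refine hau n P _ ?_
      rw [Category.assoc, ← (hsq (op (n + au))).w, reassoc_of% hx, zero_comp]
  · obtain ⟨P, π, hπ, z, hz⟩ := (hbu n).comp_left ((cokernel.π i).app (op (n + bu)))
    rw [← sm_app, ← Category.assoc] at hz
    exact ⟨P, π, hπ, (hsq (op n)).lift _ _ hz, ((hsq (op n)).lift_fst _ _ hz).symm⟩

omit [IsNoetherianRing A] in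
theorem isArtinian_terms {S : ShortComplex (PS C)} (hS : S.ShortExact) (n : ℕ)
    [IsArtinianObject (S.X₁.obj (op n))] [IsArtinianObject (S.X₃.obj (op n))] :
    IsArtinianObject (S.X₂.obj (op n)) :=
  haveI : IsArtinianObject (S.map ((evaluation ℕᵒᵖ C).obj (op n))).X₁ :=
    ‹IsArtinianObject (S.X₁.obj (op n))›
  haveI : IsArtinianObject (S.map ((evaluation ℕᵒᵖ C).obj (op n))).X₃ :=
    ‹IsArtinianObject (S.X₃.obj (op n))›
  NoethObj.isArtinian_of_shortExact (shortExact_app hS (op n))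

omit [IsNoetherianRing A] in
theorem isNoetherian_terms {S : ShortComplex (PS C)} (hS : S.ShortExact) (n : ℕ)
    [IsNoetherianObject (S.X₁.obj (op n))] [IsNoetherianObject (S.X₃.obj (op n))] :
    IsNoetherianObject (S.X₂.obj (op n)) :=
  haveI : IsNoetherianObject (S.map ((evaluation ℕᵒᵖ C).obj (op n))).X₁ :=
    ‹IsNoetherianObject (S.X₁.obj (op n))›
  haveI : IsNoetherianObject (S.map ((evaluation ℕᵒᵖ C).obj (op n))).X₃ :=
    ‹IsNoetherianObject (S.X₃.obj (op n))›
  NoethObj.isNoetherian_of_shortExact (shortExact_app hS (op n))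

end Groth.Agent.ARSysLib
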