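import Groth.Agent.ARSysLib.Basic

/-!
# The uniform Mittag-Leffler condition
-/

set_option autoImplicit false
set_option linter.style.haveILetI false

universe w v u

open CategoryTheory CategoryTheory.Limits Opposite ARSys

namespace Groth.Agent.ARSysLib

variable {C : Type u} [Category.{v} C] [Abelian C]

theorem imLE_iff' {A B X : C} {f : A ⟶ X} {g : B ⟶ X} (h : imageSubobject f = imageSubobject g) :
    ImLE f g ∧ ImLE g f :=
  ⟨(imLE_iff f g).mp h.le, (imLE_iff g f).mp h.ge⟩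

theorem imEq {A B X : C} {f : A ⟶ X} {g : B ⟶ X} (h₁ : ImLE f g) (h₂ : ImLE g f) :
    imageSubobject f = imageSubobject g :=
  le_antisymm ((imLE_iff f g).mpr h₁) ((imLE_iff g f).mpr h₂)

/-- For a map from a strict system with null cokernel, the images of far transition maps are the
image of the map. -/
theorem image_eq_of_strict {X Y : PS C} (u : Y ⟶ X) (hY : IsStrict Y) (hu : CokNull u) :
    ∃ r : ℕ, ∀ s : ℕ, r ≤ s → ∀ n : ℕ,
      imageSubobject (sm X s n) = imageSubobject (u.app (op n)) := by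
  obtain ⟨r, hr⟩ := hu
  refine ⟨r, fun s hs n => imEq ((imLE_shiftMap X hs n).trans (hr n)) ?_⟩
  haveI : Epi (sm Y s n) := hY _ _ _
  exact ⟨_, sm Y s n, inferInstance, u.app (op (n + s)), sm_app u s n⟩

/-- The system of images of the transition maps `X_{n+r} ⟶ X_n`. -/
noncomputable def imSys (X : PS C) (r : ℕ) : PS C := kernel (cokernel.π (shiftHom X r))

/-- The inclusion of the system of images. -/
noncomputable def imι (X : PS C) (r : ℕ) : imSys X r ⟶ X := kernel.ι (cokernel.π (shiftHom X r))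

instance (X : PS C) (r : ℕ) : Mono (imι X r) :=
  inferInstanceAs (Mono (kernel.ι (cokernel.π (shiftHom X r))))

theorem imSys_spec (X : PS C) (r n : ℕ) :
    ImLE (sm X r n) ((imι X r).app (op n)) ∧ ImLE ((imι X r).app (op n)) (sm X r n) := by
  let p : (shift C r).obj X ⟶ imSys X r :=
    kernel.lift _ (shiftHom X r) (cokernel.condition (shiftHom X r))
  haveI : Epi p := inferInstanceAs (Epi (Abelian.factorThruImage (shiftHom X r)))
  haveI : Epi (p.app (op n)) := ((evaluation ℕᵒᵖ C).obj (op n)).map_epi p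
  have hp : p ≫ imι X r = shiftHom X r := kernel.lift_ι _ _ _
  have e : p.app (op n) ≫ (imι X r).app (op n) = sm X r n :=
    congrArg (fun m => NatTrans.app m (op n)) hp
  exact ⟨.of_eq (p.app (op n)) e.symm, ⟨_, p.app (op n), inferInstance, 𝟙 _,
    e.trans (Category.id_comp _).symm⟩⟩

theorem imι_cokNull (X : PS C) (r : ℕ) : CokNull (imι X r) := ⟨r, fun n => (imSys_spec X r n).1⟩

theorem imι_kerNull (X : PS C) (r : ℕ) : KerNull (imι X r) := by
  refine ⟨0, fun n P x hx => ?_⟩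
  haveI : Mono ((imι X r).app (op (n + 0))) :=
    ((evaluation ℕᵒᵖ C).obj (op (n + 0))).map_mono (imι X r)
  have h0 : x = 0 := zero_of_comp_mono ((imι X r).app (op (n + 0))) hx
  rw [h0, zero_comp]

theorem imSys_strict (X : PS C) (r : ℕ)
    (hr : ∀ s, r ≤ s → ∀ n, ImLE (sm X r n) (sm X s n)) : IsStrict (imSys X r) := by
  intro n m h
  haveI : Mono ((imι X r).app (op n)) := ((evaluation ℕᵒᵖ C).obj (op n)).map_mono (imι X r)
  have h2 : ImLE (sm X (r + (m - n)) n) (sm X r m ≫ tr X h) := by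
    have e : tr X (show m + r ≤ n + (r + (m - n)) by omega) ≫ sm X r m ≫ tr X h =
        sm X (r + (m - n)) n := by rw [tr_tr, tr_tr]
    exact .of_eq _ e.symm
  have key : ImLE ((imι X r).app (op n)) (tr (imSys X r) h ≫ (imι X r).app (op n)) := by
    rw [tr_app]
    exact (imSys_spec X r n).2.trans ((hr _ (Nat.le_add_right r (m - n)) n).trans
      (h2.trans ((imSys_spec X r m).1.comp_right (tr X h))))
  rw [epi_iff_surjective_up_to_refinements]
  intro A y
  obtain ⟨P, π, hπ, a, ha⟩ := key.comp_left y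
  refine ⟨P, π, hπ, a, ?_⟩
  rw [← cancel_mono ((imι X r).app (op n)), Category.assoc, Category.assoc]
  exact ha

theorem isMLAR_iff_exists_strict (X : PS C) :
    IsMLAR X ↔ ∃ (Y : PS C) (u : Y ⟶ X), IsStrict Y ∧ IsARIso u := by
  constructor
  · intro h
    obtain ⟨r, hr⟩ := (isMLAR_iff X).mp h
    exact ⟨imSys X r, imι X r, imSys_strict X r hr,
      (isARIso_iff _).mpr ⟨imι_kerNull X r, imι_cokNull X r⟩⟩
  · rintro ⟨Y, u, hY, hu⟩
    obtain ⟨r, hr⟩ := image_eq_of_strict u hY ((isARIso_iff u).mp hu).2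
    exact ⟨r, fun s hs n => (hr s hs n).trans (hr r le_rfl n).symm⟩

theorem isMLAR_iff_stable (X : PS C) :
    IsMLAR X ↔ (IsML X ∧ ∃ (X' : PS C) (ι : X' ⟶ X), Mono ι ∧
      (∀ n : ℕ, ∃ r₀ : ℕ, ∀ r : ℕ, r₀ ≤ r →
        imageSubobject (ι.app (op n)) = imageSubobject (sm X r n)) ∧
      IsARNull (cokernel ι)) := by
  constructor
  · rintro ⟨r, hr⟩
    refine ⟨fun n => ⟨r, fun s hs => hr s hs n⟩, imSys X r, imι X r, inferInstance,
      fun n => ⟨r, fun s hs => ?_⟩, (isARNull_cokernel_iff _).mpr (imι_cokNull X r)⟩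
    exact (imEq (imSys_spec X r n).2 (imSys_spec X r n).1).trans (hr s hs n).symm
  · rintro ⟨-, X', ι, -, hst, hc⟩
    obtain ⟨r, hr⟩ := (isARNull_cokernel_iff _).mp hc
    refine (isMLAR_iff X).mpr ⟨r, fun s hs n => ?_⟩
    obtain ⟨r₀, h₀⟩ := hst n
    exact (hr n).trans ((imLE_iff' (h₀ (max r₀ s) (le_max_left _ _))).1.trans
      (imLE_shiftMap X (le_max_right _ _) n))

theorem isMLAR_X₃ (S : ShortComplex (PS C)) (hS : S.ShortExact) (hY : IsMLAR S.X₂) :
    IsMLAR S.X₃ := by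
  obtain ⟨r, hr⟩ := (isMLAR_iff _).mp hY
  refine (isMLAR_iff _).mpr ⟨r, fun s hs n => ?_⟩
  haveI := epi_app hS (op (n + r))
  obtain ⟨P, π, hπ, a, ha⟩ := hr s hs n
  refine ⟨P, π ≫ S.g.app (op (n + r)), epi_comp _ _, a ≫ S.g.app (op (n + s)), ?_⟩
  rw [Category.assoc, Category.assoc, ← sm_app, ← sm_app, reassoc_of% ha]

theorem isMLAR_X₂ (S : ShortComplex (PS C)) (hS : S.ShortExact) (hX : IsMLAR S.X₁)
    (hZ : IsMLAR S.X₃) : IsMLAR S.X₂ := by
  obtain ⟨a, ha⟩ := (isMLAR_iff _).mp hX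
  obtain ⟨b, hb⟩ := (isMLAR_iff _).mp hZ
  refine (isMLAR_iff _).mpr ⟨a + b, fun s hs n => ?_⟩
  let h₁ : n + a + b ≤ n + (a + b) := by omega
  let y : S.X₂.obj (op (n + (a + b))) ⟶ S.X₂.obj (op (n + a + b)) := tr S.X₂ h₁
  obtain ⟨P, π, hπ, z, hz⟩ :=
    (hb (max b (s - a)) (le_max_left _ _) (n + a)).comp_left (y ≫ S.g.app (op (n + a + b)))
  haveI := epi_app hS (op (n + a + max b (s - a)))
  obtain ⟨P', π', hπ', y', hy'⟩ :=
    surjective_up_to_refinements_of_epi (S.g.app (op (n + a + max b (s - a)))) z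
  let d : P' ⟶ S.X₂.obj (op (n + a)) :=
    π' ≫ π ≫ y ≫ sm S.X₂ b (n + a) - y' ≫ sm S.X₂ (max b (s - a)) (n + a)
  have hd : d ≫ S.g.app (op (n + a)) = 0 := by
    simp only [d, Preadditive.sub_comp, Category.assoc, sm_app]
    simp only [Category.assoc] at hz
    rw [hz, sub_eq_zero, reassoc_of% hy']
  obtain ⟨l, hl⟩ := exists_lift hS (op (n + a)) d hd
  obtain ⟨P'', π'', hπ'', x, hx⟩ := (ha (max a s) (le_max_left _ _) n).comp_left l
  refine ⟨P'', π'' ≫ π' ≫ π, inferInstance,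
    x ≫ S.f.app (op (n + max a s)) ≫ tr S.X₂ (show n + s ≤ n + max a s by omega) +
      π'' ≫ y' ≫ tr S.X₂ (show n + s ≤ n + a + max b (s - a) by omega), ?_⟩
  have e1 : π' ≫ π ≫ sm S.X₂ (a + b) n =
      d ≫ sm S.X₂ a n + y' ≫ sm S.X₂ (max b (s - a)) (n + a) ≫ sm S.X₂ a n := by
    simp only [d, y, Preadditive.sub_comp, Category.assoc, sub_add_cancel, tr_tr]
  have e2 : x ≫ S.f.app (op (n + max a s)) ≫ tr S.X₂ (show n + s ≤ n + max a s by omega) ≫
      sm S.X₂ s n = π'' ≫ d ≫ sm S.X₂ a n := by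
    have hx' : π'' ≫ l ≫ sm S.X₁ a n = x ≫ sm S.X₁ (max a s) n := hx
    rw [tr_tr, ← sm_app, ← reassoc_of% hx', sm_app, reassoc_of% hl]
  simp only [Category.assoc, Preadditive.add_comp]
  rw [e2, e1, Preadditive.comp_add, tr_tr, tr_tr]

end Groth.Agent.ARSysLib
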