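import Groth.Agent.ARSysLib.Adic

/-!
# Systems which are `J`-adic up to translation
-/

set_option autoImplicit false
set_option linter.style.haveILetI false

universe w v u

open CategoryTheory CategoryTheory.Limits Opposite ARSys

namespace Groth.Agent.ARSysLib

variable {C : Type u} [Category.{v} C] [Abelian C] {A : Type w} [CommRing A] [Linear A C]

theorem exists_quot_of_isARAdic {J : Ideal A} {X : PS C} (hX : IsStrict X) (h : IsARAdic J X) :
    ∃ (r : ℕ) (Y : PS C) (q : (shift C r).obj X ⟶ Y),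
      (∀ n : ℕ, IsQuot (J ^ (n + 1)) (q.app (op n))) ∧ IsAdic J Y := by
  obtain ⟨-, Y, u, hY, hu⟩ := h
  obtain ⟨r, w, h₁, h₂⟩ := exists_inverse u hu
  haveI hue : ∀ k, Epi (u.app (op k)) := fun k => by
    haveI : Epi (w.app (op k) ≫ u.app (op k)) := by rw [h₂ k]; exact hX _ _ _
    exact epi_of_epi (w.app (op k)) _
  refine ⟨r, Y, w, fun n => ?_, hY⟩
  let w' : X.obj (op (n + r)) ⟶ Y.obj (op n) := w.app (op n)
  have hw : u.app (op (n + r)) ≫ w' = sm Y r n := h₁ n
  haveI : Epi (sm Y r n) := isStrict_of_isAdic hY _ _ _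
  haveI : Epi w' := epi_of_epi_fac hw
  refine isQuot_of_epi w' (hY.1 n) fun W φ hφ => ?_
  obtain ⟨ψ, hψ⟩ := isQuot_factor (hY.2 n (n + r) (Nat.le_add_right n r)) (u.app (op (n + r)) ≫ φ)
    (HomKilled.comp hφ _)
  exact ⟨ψ, by rw [← cancel_epi (u.app (op (n + r))), reassoc_of% hw]; exact hψ⟩

theorem isARAdic_of_quot {J : Ideal A} {X : PS C} (hX : IsStrict X) (kX : TermKilled J X) (r : ℕ)
    {Y : PS C} (q : (shift C r).obj X ⟶ Y)
    (hq : ∀ n : ℕ, IsQuot (J ^ (n + 1)) (q.app (op n))) (hY : IsAdic J Y) : IsARAdic J X := by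
  let q' : ∀ n, X.obj (op (n + r)) ⟶ Y.obj (op n) := fun n => q.app (op n)
  have hq' : ∀ n, IsQuot (J ^ (n + 1)) (q' n) := hq
  haveI : ∀ n, Epi (q' n) := fun n => epi_of_isQuot (hq' n)
  have qnat : ∀ {a b : ℕ} (h : a ≤ b),
      tr X (Nat.add_le_add_right h r) ≫ q' a = q' b ≫ tr Y h :=
    fun h => q.naturality (homOfLE h).op
  choose g hg using fun n => isQuot_factor (hq' n) (sm X r n) (homKilled_of_killed (kX n) _)
  have gnat : ∀ {a b : ℕ} (h : a ≤ b), tr Y h ≫ g a = g b ≫ tr X h := by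
    intro a b h
    rw [← cancel_epi (q' b), ← reassoc_of% (qnat h), hg a, sm_nat X r h, reassoc_of% (hg b)]
  let u : Y ⟶ X := { app := fun n => g n.unop, naturality := fun a b f => gnat (leOfHom f.unop) }
  refine ⟨kX, Y, u, hY, isARIso_of_inverse u r q (fun n => ?_) hg⟩
  show g (n + r) ≫ q' n = sm Y r n
  rw [← cancel_epi (q' (n + r)), reassoc_of% (hg (n + r))]
  exact (congrArg (· ≫ q' n) rfl).trans (qnat (Nat.le_add_right n r))

theorem exists_pos_subLEIdeal {J : Ideal A} {X : PS C} (r : ℕ)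
    {Y : PS C} (q : (shift C r).obj X ⟶ Y)
    (hq : ∀ n : ℕ, IsQuot (J ^ (n + 1)) (q.app (op n))) (hY : IsAdic J Y) :
    ∃ r : ℕ, 0 < r ∧ ∀ n : ℕ, SubLEIdeal (J ^ (n - r)) (Fker X n) := by
  let q' : ∀ n, X.obj (op (n + r)) ⟶ Y.obj (op n) := fun n => q.app (op n)
  have hq' : ∀ n, IsQuot (J ^ (n + 1)) (q' n) := hq
  refine ⟨r + 1, Nat.succ_pos r, fun n W φ hφ => ?_⟩
  by_cases hn : n ≤ r + 1
  · have h0 : φ = 0 := by
      have := hφ 1 (by rw [Nat.sub_eq_zero_of_le hn, pow_zero, Ideal.one_eq_top]; trivial)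
      rwa [one_smul] at this
    rw [h0, comp_zero]
  · obtain ⟨j, rfl⟩ : ∃ j, n = (j + 1) + r + 1 := ⟨n - r - 2, by omega⟩
    rw [show j + 1 + r + 1 - (r + 1) = j + 1 by omega] at hφ
    let h₁ : j + 1 + r + 1 ≤ j + 2 + r := by omega
    let h₂ : j + 2 + r ≤ j + 1 + r + 1 := by omega
    haveI : Epi (q' (j + 2)) := epi_of_isQuot (hq' _)
    obtain ⟨ψ, hψ⟩ := isQuot_factor (hq' (j + 2)) (tr X h₁ ≫ φ)
      (homKilled_mono (Ideal.pow_le_pow_right (by omega)) (HomKilled.comp hφ _))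
    obtain ⟨χ, hχ⟩ := isQuot_factor (hY.2 j (j + 2) (by omega)) ψ
      (homKilled_of_epi (q' (j + 2)) (by rw [hψ]; exact HomKilled.comp hφ _))
    have hnat : tr X (Nat.add_le_add_right (show j ≤ j + 2 by omega) r) ≫ q' j =
        q' (j + 2) ≫ tr Y (show j ≤ j + 2 by omega) :=
      q.naturality (homOfLE _).op
    have key : φ = tr X (Nat.le_succ (j + 1 + r)) ≫ tr X (show j + r ≤ j + 1 + r by omega) ≫
        q' j ≫ χ := by
      have e : φ = tr X h₂ ≫ tr X h₁ ≫ φ := by rw [reassoc_of% (tr_tr X), tr_self, Category.id_comp]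
      rw [e, ← hψ, ← hχ, ← reassoc_of% hnat, reassoc_of% (tr_tr X), reassoc_of% (tr_tr X)]
    rw [key, ← Category.assoc]
    exact (congrArg (· ≫ _) (kernelSubobject_arrow_comp _)).trans zero_comp

theorem exists_quot_of_subLEIdeal {J : Ideal A} (hJ : J.FG ∨ HasCoproducts.{w} C) {X : PS C}
    (hX : IsStrict X) (r : ℕ) (hr : ∀ n : ℕ, SubLEIdeal (J ^ (n - r)) (Fker X n)) :
    ∃ (Y : PS C) (q : (shift C r).obj X ⟶ Y),
      (∀ n : ℕ, IsQuot (J ^ (n + 1)) (q.app (op n))) ∧ IsAdic J Y := by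
  have fac : ∀ (k d : ℕ) (W : C) (φ : X.obj (op (k + r + d)) ⟶ W),
      HomKilledBy (J ^ (k + 1)) φ → ∃ χ, tr X (Nat.le_add_right (k + r) d) ≫ χ = φ := by
    intro k d
    induction d with
    | zero => exact fun W φ _ => ⟨φ, by rw [tr_self]; exact Category.id_comp φ⟩
    | succ d ih =>
      intro W φ hφ
      let t : X.obj (op (k + r + d + 1)) ⟶ X.obj (op (k + r + d)) :=
        tr X (Nat.le_succ (k + r + d))
      haveI : Epi t := hX _ _ _
      have hk : kernel.ι t ≫ φ = 0 := by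
        have h0 : (kernelSubobject t).arrow ≫ φ = 0 := hr (k + r + d + 1) W φ
          (homKilled_mono (Ideal.pow_le_pow_right (by omega)) hφ)
        rw [← kernelSubobject_arrow', Category.assoc, h0, comp_zero]
      have hd : t ≫ Abelian.epiDesc t φ hk = φ := Abelian.comp_epiDesc _ _ _
      obtain ⟨χ, hχ⟩ := ih W (Abelian.epiDesc t φ hk) (homKilled_of_epi t (by rw [hd]; exact hφ))
      refine ⟨χ, ?_⟩
      rw [← tr_tr X (Nat.le_add_right (k + r) d) (Nat.le_succ (k + r + d)), Category.assoc, hχ]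
      exact hd
  choose Q p hp using fun k => exists_isQuot J hJ (k + 1) (X.obj (op (k + r)))
  haveI : ∀ k, Epi (p k) := fun k => epi_of_isQuot (hp k)
  have hT : ∀ (a b : ℕ) (h : a ≤ b), ∃ t : Q b ⟶ Q a,
      p b ≫ t = tr X (Nat.add_le_add_right h r) ≫ p a := fun a b h =>
    isQuot_factor (hp b) _ (homKilled_mono (Ideal.pow_le_pow_right (by omega))
      (homKilled_of_killed (hp a).1 _))
  choose t ht using hT
  have htt : ∀ (a b c : ℕ) (h : a ≤ b) (h' : b ≤ c), t b c h' ≫ t a b h = t a c (h.trans h') :=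
    fun a b c h h' => by
      rw [← cancel_epi (p c), reassoc_of% (ht b c h'), ht a b h, reassoc_of% (tr_tr X), ht]
  let Y : PS C :=
    { obj := fun n => Q n.unop
      map := fun {a b} f => t b.unop a.unop (leOfHom f.unop)
      map_id := fun a => by rw [← cancel_epi (p a.unop), ht, tr_self, Category.id_comp,
        Category.comp_id]
      map_comp := fun f g => (htt _ _ _ _ _).symm }
  refine ⟨Y, { app := fun n => p n.unop
               naturality := fun a b f => (ht _ _ _).symm }, hp, fun n => (hp n).1, fun n m h => ?_⟩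
  haveI : Epi (tr X (Nat.add_le_add_right h r)) := hX _ _ _
  haveI : Epi (t n m h) := by
    haveI : Epi (p m ≫ t n m h) := by rw [ht]; infer_instance
    exact epi_of_epi (p m) _
  refine isQuot_of_epi (t n m h) (hp n).1 fun W φ hφ => ?_
  obtain ⟨d, rfl⟩ := Nat.exists_eq_add_of_le h
  let e₁ : n + r + d ≤ n + d + r := by omega
  let e₂ : n + d + r ≤ n + r + d := by omega
  obtain ⟨χ, hχ⟩ := fac n d W (tr X e₂ ≫ p (n + d) ≫ φ) (HomKilled.comp (HomKilled.comp hφ _) _)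
  have hχ' : tr X (Nat.add_le_add_right h r) ≫ χ = p (n + d) ≫ φ := by
    rw [← tr_tr X (Nat.le_add_right (n + r) d) e₁, Category.assoc, hχ, reassoc_of% (tr_tr X),
      tr_self, Category.id_comp]
  obtain ⟨ψ, hψ⟩ := isQuot_factor (hp n) χ
    (homKilled_of_epi (tr X (Nat.add_le_add_right h r)) (by
      rw [hχ']; exact HomKilled.comp hφ _))
  exact ⟨ψ, by rw [← cancel_epi (p (n + d)), reassoc_of% (ht n (n + d) h), hψ, hχ']⟩

theorem isMLAR_of_isARIso {X Y : PS C} (u : X ⟶ Y) (hu : IsARIso u) (hY : IsMLAR Y) :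
    IsMLAR X := by
  obtain ⟨r, w, h₁, -⟩ := exists_inverse u hu
  obtain ⟨a, ha⟩ := (isMLAR_iff Y).mp hY
  refine (isMLAR_iff X).mpr ⟨r + a, fun s hs n => ?_⟩
  let w' : ∀ k, Y.obj (op (k + r)) ⟶ X.obj (op k) := fun k => w.app (op k)
  have hw : ∀ k, u.app (op (k + r)) ≫ w' k = sm X r k := h₁
  have wnat : ∀ {i j : ℕ} (h : i ≤ j),
      tr Y (Nat.add_le_add_right h r) ≫ w' i = w' j ≫ tr X h :=
    fun h => w.naturality (homOfLE h).op
  obtain ⟨P, π, hπ, y, hy⟩ := (ha s (by omega) (n + r)).comp_left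
    (tr X (show n + r + a ≤ n + (r + a) by omega) ≫ u.app (op (n + r + a)))
  refine ⟨P, π, hπ, y ≫ tr Y (show n + s + r ≤ n + r + s by omega) ≫ w' (n + s), ?_⟩
  simp only [Category.assoc] at hy ⊢
  rw [← wnat (Nat.le_add_right n s), reassoc_of% (tr_tr Y), ← reassoc_of% hy,
    ← reassoc_of% (sm_app u a (n + r)), hw n, tr_tr, tr_tr]

theorem isARAdic_X₃ {J : Ideal A} {S : ShortComplex (PS C)} (hS : S.ShortExact)
    (k₃ : TermKilled J S.X₃) (h₁ : IsMLAR S.X₁) (h₂ : IsARAdic J S.X₂) : IsARAdic J S.X₃ := by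
  obtain ⟨-, Y, u, hY, hu⟩ := h₂
  obtain ⟨⟨a, ha⟩, ⟨b, hb⟩⟩ := (isARIso_iff u).mp hu
  haveI := hS.mono_f
  haveI := fun k => mono_app hS k
  haveI := fun k => epi_app hS k
  let v : Y ⟶ S.X₃ := u ≫ S.g
  have hl0 : (kernel.ι v ≫ u) ≫ S.g = 0 := by rw [Category.assoc]; exact kernel.condition v
  let l : kernel v ⟶ S.X₁ := hS.exact.lift _ hl0
  have hl : ∀ k, l.app k ≫ S.f.app k = (kernel.ι v).app k ≫ u.app k := fun k =>
    congrArg (fun m => NatTrans.app m k) (hS.exact.lift_f _ hl0)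
  haveI : ∀ k, Mono ((kernel.ι v).app k) := fun k =>
    ((evaluation ℕᵒᵖ C).obj k).map_mono (kernel.ι v)
  have hvex : ∀ k {P : C} (y : P ⟶ Y.obj k), y ≫ u.app k ≫ S.g.app k = 0 →
      ∃ z, z ≫ (kernel.ι v).app k = y := fun k P y hy => by
    have hex := (ShortComplex.exact_of_f_is_kernel (ShortComplex.mk (kernel.ι v) v
      (kernel.condition v)) (kernelIsKernel v)).map ((evaluation ℕᵒᵖ C).obj k)
    haveI : Mono ((ShortComplex.mk (kernel.ι v) v (kernel.condition v)).map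
      ((evaluation ℕᵒᵖ C).obj k)).f := ‹∀ k, Mono ((kernel.ι v).app k)› k
    exact ⟨hex.lift y hy, hex.lift_f y hy⟩
  have hlu : IsARIso l := by
    refine (isARIso_iff l).mpr ⟨⟨a, fun n P x hx => ?_⟩, ⟨b, fun n => ?_⟩⟩
    · rw [← cancel_mono ((kernel.ι v).app (op n)), zero_comp, Category.assoc, sm_app,
        ← Category.assoc]
      refine ha n _ _ ?_
      rw [Category.assoc, ← hl, reassoc_of% hx, zero_comp]
    · obtain ⟨P, π, hπ, y, hy⟩ := (hb n).comp_left (S.f.app (op (n + b)))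
      obtain ⟨z, hz⟩ := hvex (op n) y (by
        rw [← reassoc_of% hy, sm_app]
        rw [reassoc_of% (show S.f.app (op (n + b)) ≫ S.g.app (op (n + b)) = 0 by
          rw [← NatTrans.comp_app, S.zero, zero_app]), zero_comp, comp_zero])
      refine ⟨P, π, hπ, z, ?_⟩
      rw [← cancel_mono (S.f.app (op n)), Category.assoc, Category.assoc, sm_app, hl,
        reassoc_of% hz, hy]
  obtain ⟨c, hc⟩ := (isMLAR_iff _).mp (isMLAR_of_isARIso l hlu h₁)
  let i₀ : imSys (kernel v) c ⟶ Y := imι (kernel v) c ≫ kernel.ι v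
  have hi₀ : i₀ ≫ v = 0 := by rw [Category.assoc, kernel.condition, comp_zero]
  have hS' : (ShortComplex.mk i₀ (cokernel.π i₀) (cokernel.condition i₀)).ShortExact :=
    { exact := ShortComplex.exact_of_g_is_cokernel _ (cokernelIsCokernel i₀)
      mono_f := inferInstanceAs (Mono i₀)
      epi_g := inferInstanceAs (Epi (cokernel.π i₀)) }
  have hZ : IsAdic J (cokernel i₀) := isAdic_X₃ hS' (imSys_strict _ c hc) hY
  refine ⟨k₃, cokernel i₀, cokernel.desc i₀ v hi₀, hZ, ?_⟩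
  have hd : ∀ k, (cokernel.π i₀).app k ≫ (cokernel.desc i₀ v hi₀).app k =
      u.app k ≫ S.g.app k := fun k =>
    congrArg (fun m => NatTrans.app m k) (cokernel.π_desc i₀ v hi₀)
  have hπ0 : ∀ k, (imι (kernel v) c).app k ≫ (kernel.ι v).app k ≫ (cokernel.π i₀).app k = 0 :=
    fun k => by
      rw [← Category.assoc, ← NatTrans.comp_app, ← NatTrans.comp_app, cokernel.condition, zero_app]
  refine (isARIso_iff _).mpr ⟨⟨c, fun n P x hx => ?_⟩, ⟨b, fun n => ?_⟩⟩
  · haveI : Epi ((cokernel.π i₀).app (op (n + c))) :=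
      ((evaluation ℕᵒᵖ C).obj (op (n + c))).map_epi (cokernel.π i₀)
    obtain ⟨P', π, hπ, y, hy⟩ :=
      surjective_up_to_refinements_of_epi ((cokernel.π i₀).app (op (n + c))) x
    obtain ⟨z, hz⟩ := hvex (op (n + c)) y (by
      rw [← hd, ← reassoc_of% hy, hx, comp_zero])
    obtain ⟨P'', π', hπ', t, htt⟩ := (imSys_spec (kernel v) c n).1.comp_left z
    rw [← cancel_epi (π' ≫ π), comp_zero, Category.assoc, reassoc_of% hy, ← sm_app, ← hz,
      Category.assoc, ← reassoc_of% (sm_app (kernel.ι v) c n)]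
    rw [reassoc_of% htt, hπ0, comp_zero]
  · obtain ⟨P, π, hπ, y, hy⟩ := hb n
    haveI : Epi (S.g.app (op (n + b))) := epi_app hS _
    refine ⟨P, π ≫ S.g.app (op (n + b)), epi_comp _ _, y ≫ (cokernel.π i₀).app (op n), ?_⟩
    rw [Category.assoc, Category.assoc, hd, ← sm_app, reassoc_of% hy]

end Groth.Agent.ARSysLib
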