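import Groth.Agent.ARSysLib.Adic

/-!
# Adapted systems
-/

set_option autoImplicit false
set_option linter.style.haveILetI false

universe w v u

open CategoryTheory CategoryTheory.Limits Opposite ARSys

namespace Groth.Agent.ARSysLib

variable {C : Type u} [Category.{v} C] [Abelian C]

theorem arrow_tr_Fsub (X : PS C) {q n : ℕ} (k : ℕ) (hk : k + 1 = q) (h : k ≤ n) :
    (Fsub X q n).arrow ≫ tr X h = 0 := by
  subst hk
  rw [show Fsub X (k + 1) n = kernelSubobject (tr X h) from dif_pos h]
  exact kernelSubobject_arrow_comp _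

theorem le_Fsub (X : PS C) {P : C} (q n : ℕ) (x : P ⟶ X.obj (op n))
    (h₁ : ∀ k, k + 1 = q → ∀ h : k ≤ n, x ≫ tr X h = 0) (h₂ : n + 1 < q → x = 0) :
    imageSubobject x ≤ Fsub X q n := by
  match q with
  | 0 => exact le_top
  | k + 1 =>
    by_cases h : k ≤ n
    · rw [show Fsub X (k + 1) n = kernelSubobject (tr X h) from dif_pos h]
      exact imageSubobject_le x (factorThruKernelSubobject _ x (h₁ k rfl h))
        (factorThruKernelSubobject_comp_arrow _ _ _)
    · rw [show Fsub X (k + 1) n = ⊥ from dif_neg h]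
      obtain rfl := h₂ (by omega)
      rw [imageSubobject_zero]

variable {A : Type w} [CommRing A] [Linear A C]

theorem Fsub_antitone (X : PS C) {q q' n : ℕ} (h : q' ≤ q) :
    ∃ l, l ≫ (Fsub X q' n).arrow = (Fsub X q n).arrow := by
  suffices imageSubobject (Fsub X q n).arrow ≤ Fsub X q' n by
    exact ⟨factorThruImageSubobject _ ≫ Subobject.ofLE _ _ this, by
      rw [Category.assoc, Subobject.ofLE_arrow, imageSubobject_arrow_comp]⟩
  refine le_Fsub X q' n _ (fun k hk hkn => ?_) (fun hn => ?_)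
  · by_cases hq : q - 1 ≤ n
    · rw [← tr_tr X (show k ≤ q - 1 by omega) hq, ← Category.assoc,
        arrow_tr_Fsub X (q - 1) (by omega) hq, zero_comp]
    · obtain ⟨j, rfl⟩ : ∃ j, q = j + 1 := ⟨q - 1, by omega⟩
      rw [show Fsub X (j + 1) n = ⊥ from dif_neg (by omega), Subobject.bot_arrow, zero_comp]
  · obtain ⟨j, rfl⟩ : ∃ j, q = j + 1 := ⟨q - 1, by omega⟩
    rw [show Fsub X (j + 1) n = ⊥ from dif_neg (by omega), Subobject.bot_arrow]

theorem isAdapted_iff (J : Ideal A) (X : PS C) :
    IsAdapted J X ↔ ∀ (n p q : ℕ), ∀ a ∈ J ^ p,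
      imageSubobject ((Fsub X q n).arrow ≫ (a • 𝟙 (X.obj (op n)))) ≤ Fsub X (p + q) n := by
  constructor
  · intro H n p q a ha
    have top : ∀ {m p' : ℕ}, p' ≤ p → p' ≤ m + 1 → ∀ {P : C} (y : P ⟶ X.obj (op m)),
        (∀ k, k + 1 = m + 1 - p' → ∀ h : k ≤ m, y ≫ tr X h = 0) → a • y = 0 := by
      intro m p' hp hpm P y hy
      have hle := le_Fsub X (m + 1 - p') m y hy (fun hh => absurd hh (by omega))
      have e : factorThruImageSubobject y ≫ Subobject.ofLE _ _ hle ≫
          (Fsub X (m + 1 - p') m).arrow = y := by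
        rw [Subobject.ofLE_arrow, imageSubobject_arrow_comp]
      calc a • y = y ≫ (a • 𝟙 (X.obj (op m))) := by rw [Linear.comp_smul, Category.comp_id]
        _ = 0 := by
          rw [← e, Category.assoc, Category.assoc, H m p' hpm a (Ideal.pow_le_pow_right hp ha),
            comp_zero, comp_zero]
    have e : (Fsub X q n).arrow ≫ (a • 𝟙 (X.obj (op n))) = a • (Fsub X q n).arrow := by
      rw [Linear.comp_smul, Category.comp_id]
    rw [e]
    refine le_Fsub X (p + q) n _ (fun k hk hkn => ?_) (fun hn => ?_)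
    · rw [Linear.smul_comp]
      refine top (p' := p) le_rfl (by omega) _ fun j hj hjk => ?_
      rw [Category.assoc, tr_tr]
      exact arrow_tr_Fsub X j (by omega) _
    · refine top (p' := min p (n + 1)) (min_le_left _ _) (min_le_right _ _) _ fun j hj hjn => ?_
      obtain ⟨l, hl⟩ := Fsub_antitone X (n := n) (q := q) (q' := n + 1 - min p (n + 1)) (by omega)
      rw [← hl, Category.assoc, arrow_tr_Fsub X j hj hjn, comp_zero]
  · intro H n p hp a ha
    have hle := H n p (n + 1 - p) a ha
    rw [show p + (n + 1 - p) = n + 1 by omega] at hle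
    have h0 := arrow_tr_Fsub X n rfl (le_refl n)
    rw [tr_self, Category.comp_id] at h0
    rw [← imageSubobject_arrow_comp ((Fsub X (n + 1 - p) n).arrow ≫ (a • 𝟙 (X.obj (op n)))),
      ← Subobject.ofLE_arrow hle, h0, comp_zero, comp_zero]

end Groth.Agent.ARSysLib
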