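import Groth.Agent.ARSysLib.MLAR
import Mathlib.RingTheory.Finiteness.Ideal

/-!
# `J`-adic systems
-/

set_option autoImplicit false
set_option linter.style.haveILetI false

universe w v u

open CategoryTheory CategoryTheory.Limits Opposite ARSys

namespace Groth.Agent.ARSysLib

variable {C : Type u} [Category.{v} C] [Abelian C] {A : Type w} [CommRing A] [Linear A C]

theorem homKilled_of_killed {I : Ideal A} {X Y : C} (h : KilledBy I Y) (φ : X ⟶ Y) :
    HomKilledBy I φ := fun a ha => by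
  rw [← Category.comp_id φ, ← Linear.comp_smul, h a ha, comp_zero]

theorem HomKilled.comp {I : Ideal A} {X Y Z : C} {φ : X ⟶ Y} (h : HomKilledBy I φ) (x : Z ⟶ X) :
    HomKilledBy I (x ≫ φ) := fun a ha => by rw [← Linear.comp_smul, h a ha, comp_zero]

theorem HomKilled.comp' {I : Ideal A} {X Y Z : C} {φ : X ⟶ Y} (h : HomKilledBy I φ) (x : Y ⟶ Z) :
    HomKilledBy I (φ ≫ x) := fun a ha => by rw [← Linear.smul_comp, h a ha, zero_comp]

theorem homKilled_mono {I I' : Ideal A} (h : I' ≤ I) {X Y : C} {φ : X ⟶ Y}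
    (hφ : HomKilledBy I φ) : HomKilledBy I' φ := fun a ha => hφ a (h ha)

theorem homKilled_of_epi {I : Ideal A} {X Y Z : C} (p : X ⟶ Y) [Epi p] {φ : Y ⟶ Z}
    (h : HomKilledBy I (p ≫ φ)) : HomKilledBy I φ := fun a ha => by
  rw [← cancel_epi p, comp_zero, Linear.comp_smul, h a ha]

theorem killedBy_of_epi {I : Ideal A} {X Y : C} (p : X ⟶ Y) [Epi p] (h : KilledBy I X) :
    KilledBy I Y := fun a ha => by
  rw [← cancel_epi p, comp_zero, Linear.comp_smul, Category.comp_id]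
  exact homKilled_of_killed (X := X) h (𝟙 X) a ha |> fun e => by
    rw [← Category.id_comp p, ← Linear.smul_comp, h a ha, zero_comp]

theorem pow_le {J : Ideal A} {a b : ℕ} (h : a ≤ b) : J ^ b ≤ J ^ a := Ideal.pow_le_pow_right h

theorem isQuot_factor {I : Ideal A} {X Q : C} {p : X ⟶ Q} (hp : IsQuot I p) {Y : C} (φ : X ⟶ Y)
    (h : HomKilledBy I φ) : ∃ ψ : Q ⟶ Y, p ≫ ψ = φ := (hp.2 Y φ h).exists

theorem epi_of_isQuot {I : Ideal A} {X Q : C} {p : X ⟶ Q} (hp : IsQuot I p) : Epi p :=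
  ⟨fun {Z} a b h => (hp.2 Z (p ≫ a) (HomKilled.comp' (homKilled_of_killed hp.1 p) a)).unique rfl
    h.symm⟩

theorem isQuot_of_epi {I : Ideal A} {X Q : C} (p : X ⟶ Q) [Epi p] (hQ : KilledBy I Q)
    (h : ∀ (Y : C) (φ : X ⟶ Y), HomKilledBy I φ → ∃ ψ, p ≫ ψ = φ) : IsQuot I p :=
  ⟨hQ, fun Y φ hφ => by
    obtain ⟨ψ, hψ⟩ := h Y φ hφ
    exact ⟨ψ, hψ, fun ψ' hψ' => (cancel_epi p).mp (hψ'.trans hψ.symm)⟩⟩

theorem isStrict_of_isAdic {J : Ideal A} {X : PS C} (h : IsAdic J X) : IsStrict X :=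
  fun n m hnm => epi_of_isQuot (h.2 n m hnm)

theorem exists_isQuot_of_span {I : Ideal A} {ι : Type*} (a : ι → A)
    (ha : Ideal.span (Set.range a) = I) (X : C) [HasCoproduct (fun _ : ι => X)] :
    ∃ (Q : C) (p : X ⟶ Q), IsQuot I p := by
  let m : (∐ fun _ : ι => X) ⟶ X := Sigma.desc fun i => a i • 𝟙 X
  have key : ∀ {Y : C} (φ : X ⟶ Y), HomKilledBy I φ ↔ m ≫ φ = 0 := by
    intro Y φ
    constructor
    · intro h
      ext i
      rw [Sigma.ι_desc_assoc, Linear.smul_comp, Category.id_comp, comp_zero]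
      exact h _ (ha ▸ Ideal.subset_span ⟨i, rfl⟩)
    · intro h b hb
      rw [← ha] at hb
      induction hb using Submodule.span_induction with
      | mem x hx =>
        obtain ⟨i, rfl⟩ := hx
        have := congrArg (fun t => Sigma.ι (fun _ : ι => X) i ≫ t) h
        simpa [m] using this
      | zero => exact zero_smul A φ
      | add x y _ _ hx hy => rw [add_smul, hx, hy, add_zero]
      | smul c x _ hx => rw [smul_eq_mul, mul_smul, hx, smul_zero]
  refine ⟨cokernel m, cokernel.π m, isQuot_of_epi _ (fun b hb => ?_) fun Y φ hφ =>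
    ⟨cokernel.desc m φ ((key φ).mp hφ), cokernel.π_desc _ _ _⟩⟩
  rw [← cancel_epi (cokernel.π m), comp_zero, Linear.comp_smul, Category.comp_id]
  exact (key (cokernel.π m)).mpr (cokernel.condition m) b hb

theorem exists_isQuot (J : Ideal A) (hJ : J.FG ∨ HasCoproducts.{w} C) (k : ℕ) (X : C) :
    ∃ (Q : C) (p : X ⟶ Q), IsQuot (J ^ k) p := by
  rcases hJ with hJ | hJ
  · obtain ⟨m, a, ha⟩ := Submodule.fg_iff_exists_fin_generating_family.mp (hJ.pow (n := k))
    exact exists_isQuot_of_span a ha X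
  · exact exists_isQuot_of_span (fun a : ↥(J ^ k) => (a : A))
      (by rw [Subtype.range_coe_subtype]; exact Ideal.span_eq (J ^ k)) X

/-- Extension of a morphism defined on a translate of an adic system. -/
theorem existsUnique_of_shift {J : Ideal A} {X Y : PS C} (hX : IsAdic J X) (hY : TermKilled J Y)
    (r : ℕ) (f : (shift C r).obj X ⟶ Y) :
    ∃! g : X ⟶ Y, ∀ n : ℕ, f.app (op n) = sm X r n ≫ g.app (op n) := by
  choose g hg using fun n : ℕ =>
    isQuot_factor (hX.2 n (n + r) (Nat.le_add_right n r)) (f.app (op n))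
      (homKilled_of_killed (hY n) _)
  have hnat : ∀ {a b : ℕ} (h : a ≤ b), tr X h ≫ g a = g b ≫ tr Y h := by
    intro a b h
    haveI := isStrict_of_isAdic hX _ _ (Nat.le_add_right b r)
    have e : tr X (Nat.add_le_add_right h r) ≫ f.app (op a) = f.app (op b) ≫ tr Y h :=
      f.naturality (homOfLE h).op
    rw [← cancel_epi (sm X r b), ← Category.assoc, ← sm_nat X r h, Category.assoc, hg a, e,
      reassoc_of% (hg b)]
    rfl
  refine ⟨{ app := fun n => g n.unop, naturality := fun a b q => hnat (leOfHom q.unop) },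
    fun n => (hg n).symm, fun g' hg' => ?_⟩
  ext n
  haveI := isStrict_of_isAdic hX _ _ (Nat.le_add_right n.unop r)
  exact (cancel_epi (sm X r n.unop)).mp ((hg' n.unop).symm.trans (hg n.unop).symm)

theorem exists_isARIso_of_shift {J : Ideal A} {X Y : PS C} (kX : TermKilled J X)
    (hY : IsAdic J Y) (r : ℕ) (v : (shift C r).obj Y ⟶ X) (hv : IsARIso v) :
    ∃ u : Y ⟶ X, IsARIso u := by
  obtain ⟨u, hu, -⟩ := existsUnique_of_shift hY kX r v
  obtain ⟨⟨a, ha⟩, ⟨b, hb⟩⟩ := (isARIso_iff v).mp hv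
  refine ⟨u, (isARIso_iff u).mpr ⟨⟨a, fun n P x hx => ?_⟩, ⟨b, fun n => ?_⟩⟩⟩
  · haveI := isStrict_of_isAdic hY _ _ (Nat.le_add_right (n + a) r)
    obtain ⟨P', π, hπ, y, hy⟩ := surjective_up_to_refinements_of_epi (sm Y r (n + a)) x
    have h0 : y ≫ tr Y (Nat.add_le_add_right (Nat.le_add_right n a) r) = 0 :=
      ha n P' y ((congrArg (y ≫ ·) (hu (n + a))).trans (by
        rw [← reassoc_of% hy, hx, comp_zero]))
    rw [← cancel_epi π, comp_zero, reassoc_of% hy, ← sm_nat Y r (Nat.le_add_right n a),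
      reassoc_of% h0, zero_comp]
  · exact (hb n).trans (.of_eq (sm Y r n) (hu n))

theorem isAdic_X₃ {J : Ideal A} {S : ShortComplex (PS C)} (hS : S.ShortExact)
    (h₁ : IsStrict S.X₁) (h₂ : IsAdic J S.X₂) : IsAdic J S.X₃ := by
  haveI := fun k => epi_app hS k
  refine ⟨fun n => killedBy_of_epi (S.g.app (op n)) (h₂.1 n), fun n m h => ?_⟩
  haveI : Epi (tr S.X₃ h) := by
    haveI := isStrict_of_isAdic h₂ _ _ h
    haveI : Epi (S.g.app (op m) ≫ tr S.X₃ h) := by rw [← tr_app]; infer_instance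
    exact epi_of_epi (S.g.app (op m)) _
  refine isQuot_of_epi _ (killedBy_of_epi (S.g.app (op n)) (h₂.1 n)) fun W φ hφ => ?_
  obtain ⟨ψ, hψ⟩ := isQuot_factor (h₂.2 n m h) (S.g.app (op m) ≫ φ) (HomKilled.comp hφ _)
  have h0 : S.f.app (op n) ≫ ψ = 0 := by
    haveI := h₁ n m h
    rw [← cancel_epi (tr S.X₁ h), comp_zero, ← Category.assoc, tr_app, Category.assoc, hψ,
      ← Category.assoc, ← NatTrans.comp_app, S.zero, zero_app, zero_comp]
  refine ⟨(shortExact_app hS (op n)).gIsCokernel.desc (CokernelCofork.ofπ ψ h0), ?_⟩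
  have hd : S.g.app (op n) ≫ (shortExact_app hS (op n)).gIsCokernel.desc (CokernelCofork.ofπ ψ h0)
      = ψ := (shortExact_app hS (op n)).gIsCokernel.fac _ WalkingParallelPair.one
  rw [← cancel_epi (S.g.app (op m)), ← Category.assoc, ← tr_app, Category.assoc, hd, hψ]

/-- A morphism out of the middle term killing the first term factors through the third. -/
theorem exists_desc {S : ShortComplex (PS C)} (hS : S.ShortExact) (k : ℕᵒᵖ) {W : C}
    (φ : S.X₂.obj k ⟶ W) (hφ : S.f.app k ≫ φ = 0) : ∃ χ, S.g.app k ≫ χ = φ :=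
  ⟨(shortExact_app hS k).gIsCokernel.desc (CokernelCofork.ofπ φ hφ),
    (shortExact_app hS k).gIsCokernel.fac _ WalkingParallelPair.one⟩

theorem imLE_of_cokernel {X Y W : C} {f : X ⟶ W} {g : Y ⟶ W} (h : f ≫ cokernel.π g = 0) :
    ImLE f g :=
  (ShortComplex.exact_of_g_is_cokernel (ShortComplex.mk g (cokernel.π g) (cokernel.condition g))
    (cokernelIsCokernel g)).exact_up_to_refinements f h

theorem imLE_of_comp_mono {X Y W W' : C} {f : X ⟶ W} {g : Y ⟶ W} (i : W ⟶ W') [Mono i]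
    (h : ImLE (f ≫ i) (g ≫ i)) : ImLE f g := by
  obtain ⟨P, π, hπ, a, ha⟩ := h
  exact ⟨P, π, hπ, a, by rw [← cancel_mono i, Category.assoc, Category.assoc, ha]⟩

theorem isStrict_X₁ {J : Ideal A} {S : ShortComplex (PS C)} (hS : S.ShortExact)
    (k₂ : TermKilled J S.X₂) (h₂ : IsStrict S.X₂) (h₃ : IsAdic J S.X₃) : IsStrict S.X₁ := by
  intro n m h
  haveI := fun k => mono_app hS k
  haveI := fun k => epi_app hS k
  let q := cokernel.π (tr S.X₁ h ≫ S.f.app (op n))
  have hc : tr S.X₁ h ≫ S.f.app (op n) ≫ q = 0 := by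
    rw [← Category.assoc]; exact cokernel.condition _
  obtain ⟨χ, hχ⟩ := exists_desc hS (op m) (tr S.X₂ h ≫ q) (by
    rw [← Category.assoc, ← tr_app, Category.assoc, hc])
  obtain ⟨ψ, hψ⟩ := isQuot_factor (h₃.2 n m h) χ (homKilled_of_epi (S.g.app (op m)) (by
    rw [hχ]
    exact HomKilled.comp' (homKilled_of_killed (k₂ n) _) _))
  have hq : q = S.g.app (op n) ≫ ψ := by
    haveI := h₂ n m h
    rw [← cancel_epi (tr S.X₂ h), reassoc_of% (tr_app S.g h), hψ, hχ]
  have h0 : S.f.app (op n) ≫ q = 0 := by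
    rw [hq, ← Category.assoc, ← NatTrans.comp_app, S.zero, zero_app, zero_comp]
  obtain ⟨P, π, hπ, a, ha⟩ := imLE_of_comp_mono (f := 𝟙 _) (g := tr S.X₁ h) (S.f.app (op n))
    (by rw [Category.id_comp]; exact imLE_of_cokernel h0)
  rw [Category.comp_id] at ha
  haveI : Epi (a ≫ tr S.X₁ h) := ha ▸ hπ
  exact epi_of_epi a _

theorem isMLAR_X₁ {J : Ideal A} {S : ShortComplex (PS C)} (hS : S.ShortExact)
    (k₂ : TermKilled J S.X₂) (h₂ : IsMLAR S.X₂) (h₃ : IsARAdic J S.X₃) : IsMLAR S.X₁ := by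
  obtain ⟨-, Y, u, hY, hu⟩ := h₃
  obtain ⟨r, w, -, hw⟩ := exists_inverse u hu
  obtain ⟨a, ha⟩ := (isMLAR_iff _).mp h₂
  refine (isMLAR_iff _).mpr ⟨r + a, fun s hs n => ?_⟩
  haveI := fun k => mono_app hS k
  haveI := fun k => epi_app hS k
  refine imLE_of_comp_mono (S.f.app (op n)) (imLE_of_cokernel ?_)
  let q := cokernel.π (sm S.X₁ s n ≫ S.f.app (op n))
  have hc : sm S.X₁ s n ≫ S.f.app (op n) ≫ q = 0 := by
    rw [← Category.assoc]; exact cokernel.condition _
  show (sm S.X₁ (r + a) n ≫ S.f.app (op n)) ≫ q = 0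
  obtain ⟨χ, hχ⟩ := exists_desc hS (op (n + s)) (sm S.X₂ s n ≫ q) (by
    rw [← Category.assoc, ← sm_app, Category.assoc, hc])
  obtain ⟨ψ, hψ⟩ := isQuot_factor (hY.2 n (n + s) (Nat.le_add_right n s)) (u.app (op (n + s)) ≫ χ)
    (HomKilled.comp (homKilled_of_epi (S.g.app (op (n + s))) (by
      rw [hχ]
      exact HomKilled.comp' (homKilled_of_killed (k₂ n) _) _)) _)
  obtain ⟨P, π, hπ, y, hy⟩ := (ha s (by omega) (n + r)).comp_left
    (tr S.X₁ (show n + r + a ≤ n + (r + a) by omega) ≫ S.f.app (op (n + r + a)))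
  have h0 : y ≫ sm S.X₂ s (n + r) ≫ S.g.app (op (n + r)) = 0 := by
    rw [← reassoc_of% hy, sm_app, ← Category.assoc (S.f.app (op (n + r + a))),
      ← NatTrans.comp_app, S.zero, zero_app, zero_comp, comp_zero, comp_zero]
  let h₁ : n + s + r ≤ n + r + s := by omega
  let w' : ∀ k, S.X₃.obj (op (k + r)) ⟶ Y.obj (op k) := fun k => w.app (op k)
  have hw' : ∀ k, w' k ≫ u.app (op k) = sm S.X₃ r k := hw
  have hwn : w' (n + s) ≫ tr Y (Nat.le_add_right n s) =
      tr S.X₃ (Nat.add_le_add_right (Nat.le_add_right n s) r) ≫ w' n :=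
    (w.naturality (homOfLE (Nat.le_add_right n s)).op).symm
  have hlast : y ≫ tr S.X₂ (show n ≤ n + r + s by omega) ≫ q = 0 := by
    have e : tr S.X₂ (show n ≤ n + r + s by omega) ≫ q =
        tr S.X₂ h₁ ≫ sm S.X₂ r (n + s) ≫ sm S.X₂ s n ≫ q := by
      rw [reassoc_of% (tr_tr S.X₂), reassoc_of% (tr_tr S.X₂)]
    rw [e, ← hχ, reassoc_of% (sm_app S.g r (n + s)), ← reassoc_of% (hw' (n + s)), ← hψ,
      reassoc_of% hwn, reassoc_of% (tr_app S.g h₁), reassoc_of% (tr_tr S.X₃)]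
    have e2 : S.g.app (op (n + r + s)) ≫ tr S.X₃ (show n + r ≤ n + r + s by omega) =
        sm S.X₂ s (n + r) ≫ S.g.app (op (n + r)) := (sm_app S.g s (n + r)).symm
    rw [reassoc_of% e2, reassoc_of% h0, zero_comp]
  rw [← cancel_epi π, comp_zero]
  have e3 : sm S.X₁ (r + a) n ≫ S.f.app (op n) = tr S.X₁ (show n + r + a ≤ n + (r + a) by omega) ≫
      S.f.app (op (n + r + a)) ≫ sm S.X₂ a (n + r) ≫ sm S.X₂ r n := by
    rw [tr_tr, ← tr_app, reassoc_of% (tr_tr S.X₁)]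
  rw [e3]
  simp only [Category.assoc] at hy ⊢
  rw [reassoc_of% hy, reassoc_of% (tr_tr S.X₂)]
  exact hlast

theorem isAdic_X₂ {J : Ideal A} {S : ShortComplex (PS C)} (hS : S.ShortExact)
    (k₂ : TermKilled J S.X₂) (h₁ : IsAdic J S.X₁) (h₃ : IsAdic J S.X₃) : IsAdic J S.X₂ := by
  refine ⟨k₂, fun n m h => ?_⟩
  haveI := fun k => mono_app hS k
  haveI := fun k => epi_app hS k
  haveI := isStrict_of_isAdic h₁ n m h
  haveI := isStrict_of_isAdic h₃ n m h
  haveI : Epi (tr S.X₂ h) := by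
    rw [epi_iff_surjective_up_to_refinements]
    intro P y
    obtain ⟨P', π, hπ, z, hz⟩ :=
      surjective_up_to_refinements_of_epi (S.g.app (op m) ≫ tr S.X₃ h) (y ≫ S.g.app (op n))
    rw [← tr_app] at hz
    obtain ⟨l, hl⟩ := exists_lift hS (op n) (π ≫ y - z ≫ tr S.X₂ h) (by
      rw [Preadditive.sub_comp, Category.assoc, Category.assoc, hz, sub_self])
    obtain ⟨P'', π', hπ', x, hx⟩ := surjective_up_to_refinements_of_epi (tr S.X₁ h) l
    refine ⟨P'', π' ≫ π, inferInstance, x ≫ S.f.app (op m) + π' ≫ z, ?_⟩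
    rw [Preadditive.add_comp, Category.assoc, Category.assoc, Category.assoc, ← tr_app,
      ← reassoc_of% hx, hl, Preadditive.comp_sub, sub_add_cancel]
  refine isQuot_of_epi _ (k₂ n) fun W φ hφ => ?_
  obtain ⟨α, hα⟩ := isQuot_factor (h₁.2 n m h) (S.f.app (op m) ≫ φ) (HomKilled.comp hφ _)
  let K := kernel (tr S.X₂ h)
  let N : kernel (kernel.ι (tr S.X₂ h) ≫ φ) ⟶ S.X₃.obj (op m) :=
    kernel.ι (kernel.ι (tr S.X₂ h) ≫ φ) ≫ kernel.ι (tr S.X₂ h) ≫ S.g.app (op m)
  have hN : HomKilledBy (J ^ (n + 1)) (cokernel.π N) := fun a ha => by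
    rw [← cancel_epi (S.g.app (op m)), comp_zero, Linear.comp_smul, ← Linear.smul_comp]
    have h0 : (a • 𝟙 (S.X₂.obj (op m))) ≫ tr S.X₂ h = 0 := by
      rw [Linear.smul_comp, Category.id_comp]
      exact homKilled_of_killed (k₂ n) _ a ha
    let l := kernel.lift (tr S.X₂ h) _ h0
    have h1 : l ≫ kernel.ι (tr S.X₂ h) ≫ φ = 0 := by
      rw [kernel.lift_ι_assoc, Linear.smul_comp, Category.id_comp, hφ a ha]
    have e : a • S.g.app (op m) = kernel.lift _ l h1 ≫ N := by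
      rw [kernel.lift_ι_assoc, kernel.lift_ι_assoc, Linear.smul_comp, Category.id_comp]
    rw [e, Category.assoc, cokernel.condition, comp_zero]
  obtain ⟨χ, hχ⟩ := isQuot_factor (h₃.2 n m h) _ hN
  refine ⟨Abelian.epiDesc (tr S.X₂ h) φ ?_, Abelian.comp_epiDesc _ _ _⟩
  obtain ⟨P, π, hπ, k, hk⟩ := imLE_of_cokernel (f := kernel.ι (tr S.X₂ h) ≫ S.g.app (op m))
    (g := N) (by
      rw [Category.assoc, ← hχ, ← reassoc_of% (tr_app S.g h), kernel.condition_assoc, zero_comp])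
  let d := π ≫ kernel.ι (tr S.X₂ h) -
    k ≫ kernel.ι (kernel.ι (tr S.X₂ h) ≫ φ) ≫ kernel.ι (tr S.X₂ h)
  obtain ⟨x, hx⟩ := exists_lift hS (op m) d (by
    simp only [d, Preadditive.sub_comp, Category.assoc]
    simp only [N] at hk
    rw [hk, sub_self])
  have hx0 : x ≫ tr S.X₁ h = 0 := by
    rw [← cancel_mono (S.f.app (op n)), zero_comp, Category.assoc, tr_app, reassoc_of% hx]
    simp [d, Preadditive.sub_comp]
  have hd : d ≫ φ = 0 := by
    rw [← hx, Category.assoc, ← hα, reassoc_of% hx0, zero_comp]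
  have hk0 : kernel.ι (kernel.ι (tr S.X₂ h) ≫ φ) ≫ kernel.ι (tr S.X₂ h) ≫ φ = 0 :=
    kernel.condition _
  rw [← cancel_epi π, comp_zero]
  simpa [d, Preadditive.sub_comp, hk0] using hd

end Groth.Agent.ARSysLib
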