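import Groth.Prelude.Def_ARSys
import Mathlib.CategoryTheory.Abelian.Refinements
import Mathlib.Algebra.Homology.ShortComplex.ShortExact
import Mathlib.CategoryTheory.Functor.OfSequence

/-!
# Projective systems up to translation: basic lemmas
-/

set_option autoImplicit false
set_option linter.style.haveILetI false

universe w v u

open CategoryTheory CategoryTheory.Limits Opposite ARSys

namespace Groth.Agent.ARSysLib

variable {C : Type u} [Category.{v} C]

theorem tr_tr (X : PS C) {a b c : ℕ} (h₁ : a ≤ b) (h₂ : b ≤ c) :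
    tr X h₂ ≫ tr X h₁ = tr X (h₁.trans h₂) := by
  rw [tr, tr, ← X.map_comp, ← op_comp, homOfLE_comp]

theorem tr_self (X : PS C) {a : ℕ} (h : a ≤ a) : tr X h = 𝟙 _ := by
  rw [tr, show homOfLE h = 𝟙 a from rfl, op_id, X.map_id]

theorem tr_app {X Y : PS C} (u : X ⟶ Y) {a b : ℕ} (h : a ≤ b) :
    tr X h ≫ u.app (op a) = u.app (op b) ≫ tr Y h :=
  u.naturality (homOfLE h).op

theorem tr_shift (X : PS C) (r : ℕ) {a b : ℕ} (h : a ≤ b) :
    tr ((shift C r).obj X) h = tr X (Nat.add_le_add_right h r) := rfl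

/-- The transition map `X_{n+r} ⟶ X_n`, with its source displayed as a component of `X`. -/
abbrev sm (X : PS C) (r n : ℕ) : X.obj (op (n + r)) ⟶ X.obj (op n) := tr X (Nat.le_add_right n r)

theorem shiftMap_eq (X : PS C) (r n : ℕ) : shiftMap X r n = sm X r n := rfl

theorem sm_app {X Y : PS C} (u : X ⟶ Y) (r n : ℕ) :
    sm X r n ≫ u.app (op n) = u.app (op (n + r)) ≫ sm Y r n := tr_app u _

theorem sm_nat (X : PS C) (r : ℕ) {a b : ℕ} (h : a ≤ b) :
    tr X (Nat.add_le_add_right h r) ≫ sm X r a = sm X r b ≫ tr X h :=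
  (tr_tr X _ _).trans (tr_tr X _ _).symm

/-- The canonical map `X[r] ⟶ X`. -/
def shiftHom (X : PS C) (r : ℕ) : (shift C r).obj X ⟶ X where
  app n := sm X r n.unop
  naturality a b f := by
    obtain ⟨f⟩ := f
    exact sm_nat X r (leOfHom f)

section Abelian

variable [Abelian C]

/-- Every element of the image of `f` lies, up to refinement, in the image of `g`. -/
def ImLE {A B X : C} (f : A ⟶ X) (g : B ⟶ X) : Prop :=
  ∃ (P : C) (π : P ⟶ A) (_ : Epi π) (a : P ⟶ B), π ≫ f = a ≫ g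

theorem imLE_iff {A B X : C} (f : A ⟶ X) (g : B ⟶ X) :
    imageSubobject f ≤ imageSubobject g ↔ ImLE f g := by
  constructor
  · intro h
    let x : A ⟶ (imageSubobject g : C) := factorThruImageSubobject f ≫ Subobject.ofLE _ _ h
    obtain ⟨P, π, hπ, a, ha⟩ :=
      surjective_up_to_refinements_of_epi (factorThruImageSubobject g) x
    refine ⟨P, π, hπ, a, ?_⟩
    have := congrArg (· ≫ (imageSubobject g).arrow) ha
    simpa [x] using this
  · rintro ⟨P, π, hπ, a, ha⟩
    refine imageSubobject_le f (X := imageSubobject g) (Abelian.epiDesc π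
      (a ≫ factorThruImageSubobject g) ?_) ?_
    · rw [← cancel_mono (imageSubobject g).arrow, zero_comp, Category.assoc, Category.assoc,
        imageSubobject_arrow_comp, ← ha, kernel.condition_assoc, zero_comp]
    · rw [← cancel_epi π, Abelian.comp_epiDesc_assoc, Category.assoc, imageSubobject_arrow_comp,
        ha]

theorem ImLE.of_eq {A B X : C} {f : A ⟶ X} {g : B ⟶ X} (a : A ⟶ B) (h : f = a ≫ g) : ImLE f g :=
  ⟨A, 𝟙 A, inferInstance, a, by rw [Category.id_comp, h]⟩

theorem ImLE.refl {A X : C} (f : A ⟶ X) : ImLE f f := .of_eq (𝟙 A) (Category.id_comp f).symm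

theorem ImLE.trans {A B D X : C} {f : A ⟶ X} {g : B ⟶ X} {h : D ⟶ X} (h₁ : ImLE f g)
    (h₂ : ImLE g h) : ImLE f h :=
  (imLE_iff f h).mp (((imLE_iff f g).mpr h₁).trans ((imLE_iff g h).mpr h₂))

theorem ImLE.comp_left {A' A B X : C} {f : A ⟶ X} {g : B ⟶ X} (h₁ : ImLE f g) (x : A' ⟶ A) :
    ImLE (x ≫ f) g :=
  ImLE.trans (.of_eq x rfl) h₁

theorem ImLE.comp_right {A B X Y : C} {f : A ⟶ X} {g : B ⟶ X} (h₁ : ImLE f g) (x : X ⟶ Y) :
    ImLE (f ≫ x) (g ≫ x) := by
  obtain ⟨P, π, hπ, a, ha⟩ := h₁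
  exact ⟨P, π, hπ, a, by rw [reassoc_of% ha]⟩

theorem imLE_tr_of_le (X : PS C) {n a b : ℕ} (h : n ≤ a) (h' : a ≤ b) :
    ImLE (tr X (h.trans h')) (tr X h) := .of_eq (tr X h') (tr_tr X h h').symm

theorem imLE_shiftMap (X : PS C) {r s : ℕ} (h : r ≤ s) (n : ℕ) :
    ImLE (sm X s n) (sm X r n) :=
  imLE_tr_of_le X _ (Nat.add_le_add_left h n)

/-- Uniform Mittag-Leffler as a one-sided inclusion. -/
theorem isMLAR_iff (X : PS C) :
    IsMLAR X ↔ ∃ r, ∀ s, r ≤ s → ∀ n, ImLE (sm X r n) (sm X s n) := by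
  refine exists_congr fun r => forall_congr' fun s => imp_congr_right fun hs => forall_congr'
    fun n => ⟨fun h => (imLE_iff _ _).mp h.ge, fun h => ?_⟩
  exact le_antisymm ((imLE_iff _ _).mpr (imLE_shiftMap X hs n)) ((imLE_iff _ _).mpr h)

theorem isARNull_iff (X : PS C) :
    IsARNull X ↔ ∃ r, ∀ n, sm X r n = 0 := Iff.rfl

/-- Components of the morphisms of a short exact sequence of systems form a short exact sequence. -/
theorem shortExact_app {S : ShortComplex (PS C)} (hS : S.ShortExact) (k : ℕᵒᵖ) :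
    (S.map ((evaluation ℕᵒᵖ C).obj k)).ShortExact :=
  hS.map_of_exact ((evaluation ℕᵒᵖ C).obj k)

theorem mono_app {S : ShortComplex (PS C)} (hS : S.ShortExact) (k : ℕᵒᵖ) : Mono (S.f.app k) :=
  (shortExact_app hS k).mono_f

theorem epi_app {S : ShortComplex (PS C)} (hS : S.ShortExact) (k : ℕᵒᵖ) : Epi (S.g.app k) :=
  (shortExact_app hS k).epi_g

/-- Lifting through the first map of a short exact sequence of systems. -/
theorem exists_lift {S : ShortComplex (PS C)} (hS : S.ShortExact) (k : ℕᵒᵖ) {P : C}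
    (x : P ⟶ S.X₂.obj k) (hx : x ≫ S.g.app k = 0) : ∃ l, l ≫ S.f.app k = x := by
  haveI : Mono (S.map ((evaluation ℕᵒᵖ C).obj k)).f := (shortExact_app hS k).mono_f
  exact ⟨(shortExact_app hS k).exact.lift x hx, (shortExact_app hS k).exact.lift_f x hx⟩

theorem isARNull_mono (X : PS C) {r s : ℕ} (h : r ≤ s) (n : ℕ) (hr : sm X r n = 0) :
    sm X s n = 0 := by
  have e : tr X (Nat.add_le_add_left h n) ≫ sm X r n = sm X s n := tr_tr X _ _
  rw [← e, hr, comp_zero]

theorem isARNull_shortExact (S : ShortComplex (PS C)) (hS : S.ShortExact) :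
    IsARNull S.X₂ ↔ IsARNull S.X₁ ∧ IsARNull S.X₃ := by
  rw [isARNull_iff, isARNull_iff, isARNull_iff]
  constructor
  · rintro ⟨r, hr⟩
    haveI := fun k => mono_app hS k
    haveI := fun k => epi_app hS k
    refine ⟨⟨r, fun n => ?_⟩, ⟨r, fun n => ?_⟩⟩
    · rw [← cancel_mono (S.f.app (op n)), sm_app, hr n, comp_zero, zero_comp]
    · rw [← cancel_epi (S.g.app (op (n + r))), comp_zero, ← sm_app, hr n, zero_comp]
  · rintro ⟨⟨r, hr⟩, ⟨s, hs⟩⟩
    refine ⟨r + s, fun n => ?_⟩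
    have h0 : sm S.X₂ s (n + r) ≫ S.g.app (op (n + r)) = 0 := by
      rw [sm_app, hs (n + r), comp_zero]
    obtain ⟨l, hl⟩ := exists_lift hS (op (n + r)) (sm S.X₂ s (n + r)) h0
    have e : tr S.X₂ (Nat.le_of_eq (Nat.add_assoc n r s)) ≫ sm S.X₂ s (n + r) ≫
        sm S.X₂ r n = sm S.X₂ (r + s) n := by
      rw [tr_tr, tr_tr]
    rw [← e, ← hl, Category.assoc, ← sm_app, hr n, zero_comp, comp_zero, comp_zero]

/-- Kernels killed by translation. -/
def KerNull {X Y : PS C} (u : X ⟶ Y) : Prop :=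
  ∃ r, ∀ (n : ℕ) (P : C) (x : P ⟶ X.obj (op (n + r))),
    x ≫ u.app (op (n + r)) = 0 → x ≫ sm X r n = 0

/-- Cokernels killed by translation. -/
def CokNull {X Y : PS C} (u : X ⟶ Y) : Prop :=
  ∃ r, ∀ n : ℕ, ImLE (sm Y r n) (u.app (op n))

theorem isARNull_kernel_iff {X Y : PS C} (u : X ⟶ Y) : IsARNull (kernel u) ↔ KerNull u := by
  haveI : ∀ k, Mono ((kernel.ι u).app k) := fun k =>
    ((evaluation ℕᵒᵖ C).obj k).map_mono (kernel.ι u)
  rw [isARNull_iff]
  refine exists_congr fun r => forall_congr' fun n => ⟨fun h P x hx => ?_, fun h => ?_⟩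
  · have hex : (ShortComplex.mk (kernel.ι u) u (kernel.condition u)).Exact :=
      ShortComplex.exact_of_f_is_kernel _ (kernelIsKernel u)
    have hex' := hex.map ((evaluation ℕᵒᵖ C).obj (op (n + r)))
    obtain ⟨l, hl⟩ : ∃ l, l ≫ (kernel.ι u).app (op (n + r)) = x := by
      haveI : Mono ((ShortComplex.mk (kernel.ι u) u (kernel.condition u)).map
        ((evaluation ℕᵒᵖ C).obj (op (n + r)))).f := this (op (n + r))
      exact ⟨hex'.lift x hx, hex'.lift_f x hx⟩
    rw [← hl, Category.assoc, ← sm_app, h, zero_comp, comp_zero]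
  · rw [← cancel_mono ((kernel.ι u).app (op n)), zero_comp, sm_app]
    refine h _ _ ?_
    rw [← NatTrans.comp_app, kernel.condition, zero_app]

theorem isARNull_cokernel_iff {X Y : PS C} (u : X ⟶ Y) : IsARNull (cokernel u) ↔ CokNull u := by
  haveI : ∀ k, Epi ((cokernel.π u).app k) := fun k =>
    ((evaluation ℕᵒᵖ C).obj k).map_epi (cokernel.π u)
  rw [isARNull_iff]
  refine exists_congr fun r => forall_congr' fun n => ⟨fun h => ?_, fun h => ?_⟩
  · have hex : (ShortComplex.mk u (cokernel.π u) (cokernel.condition u)).Exact :=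
      ShortComplex.exact_of_g_is_cokernel _ (cokernelIsCokernel u)
    have hex' := hex.map ((evaluation ℕᵒᵖ C).obj (op n))
    obtain ⟨P, π, hπ, a, ha⟩ := hex'.exact_up_to_refinements (sm Y r n) (by
      show sm Y r n ≫ (cokernel.π u).app (op n) = 0
      rw [sm_app, h, comp_zero])
    exact ⟨P, π, hπ, a, ha⟩
  · obtain ⟨P, π, hπ, a, ha⟩ := h
    rw [← cancel_epi ((cokernel.π u).app (op (n + r))), comp_zero, ← sm_app,
      ← cancel_epi π, comp_zero, reassoc_of% ha, ← NatTrans.comp_app, cokernel.condition, zero_app,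
      comp_zero]

theorem isARIso_iff {X Y : PS C} (u : X ⟶ Y) : IsARIso u ↔ KerNull u ∧ CokNull u :=
  and_congr (isARNull_kernel_iff u) (isARNull_cokernel_iff u)

/-- An isomorphism up to translation has an inverse up to translation. -/
theorem exists_inverse {X Y : PS C} (u : X ⟶ Y) (hu : IsARIso u) :
    ∃ (r : ℕ) (w : (shift C r).obj Y ⟶ X),
      (∀ n : ℕ, u.app (op (n + r)) ≫ w.app (op n) = sm X r n) ∧
      (∀ n : ℕ, w.app (op n) ≫ u.app (op n) = sm Y r n) := by
  obtain ⟨⟨a, ha⟩, ⟨b, hb⟩⟩ := (isARIso_iff u).mp hu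
  have key : ∀ n : ℕ, ∃ g : Y.obj (op (n + (a + b))) ⟶ X.obj (op n), ∀ (P : C)
      (y : P ⟶ Y.obj (op (n + (a + b)))) (x : P ⟶ X.obj (op (n + a))),
      x ≫ u.app (op (n + a)) = y ≫ tr Y (by omega) → y ≫ g = x ≫ sm X a n := by
    intro n
    obtain ⟨Q, π, hπ, l, hl⟩ := (hb (n + a)).comp_left
      (tr Y (show n + a + b ≤ n + (a + b) by omega))
    rw [tr_tr] at hl
    have hk : kernel.ι π ≫ l ≫ sm X a n = 0 := by
      rw [← Category.assoc]
      refine ha n _ _ ?_
      rw [Category.assoc, ← hl, kernel.condition_assoc, zero_comp]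
    refine ⟨Abelian.epiDesc π (l ≫ sm X a n) hk, fun P y x hxy => ?_⟩
    obtain ⟨P', π', hπ', q, hq⟩ := surjective_up_to_refinements_of_epi π y
    have h0 : (π' ≫ x - q ≫ l) ≫ sm X a n = 0 := ha n _ _ (by
      rw [Preadditive.sub_comp, Category.assoc, Category.assoc, hxy, ← hl, reassoc_of% hq,
        sub_self])
    rw [Preadditive.sub_comp, sub_eq_zero, Category.assoc, Category.assoc] at h0
    rw [← cancel_epi π', reassoc_of% hq, Abelian.comp_epiDesc, h0]
  choose g hg using key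
  refine ⟨a + b, { app := fun n => g n.unop, naturality := ?_ }, fun n => ?_, fun n => ?_⟩
  · rintro m n ⟨f⟩
    have hle : n.unop ≤ m.unop := leOfHom f
    show tr Y (Nat.add_le_add_right hle (a + b)) ≫ g n.unop = g m.unop ≫ tr X hle
    obtain ⟨Q, π, hπ, l, hl⟩ := (hb (m.unop + a)).comp_left
      (tr Y (show m.unop + a + b ≤ m.unop + (a + b) by omega))
    rw [tr_tr] at hl
    rw [← cancel_epi π]
    have e1 := hg m.unop _ π l hl.symm
    have e2 := hg n.unop _ (π ≫ tr Y (Nat.add_le_add_right hle (a + b)))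
      (l ≫ tr X (Nat.add_le_add_right hle a)) (by
        rw [Category.assoc, Category.assoc, tr_app, ← reassoc_of% hl, tr_tr, tr_tr])
    rw [reassoc_of% e1]
    rw [Category.assoc] at e2
    rw [e2, Category.assoc, sm_nat X a hle]
  · have e := hg n _ (u.app (op (n + (a + b)))) (tr X (show n + a ≤ n + (a + b) by omega))
      (tr_app u _)
    exact e.trans (tr_tr X _ _)
  · obtain ⟨Q, π, hπ, l, hl⟩ := (hb (n + a)).comp_left
      (tr Y (show n + a + b ≤ n + (a + b) by omega))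
    rw [tr_tr] at hl
    show g n ≫ u.app (op n) = sm Y (a + b) n
    rw [← cancel_epi π, reassoc_of% (hg n _ π l hl.symm), sm_app, ← reassoc_of% hl,
      tr_tr]

theorem isARIso_of_inverse {X Y : PS C} (u : X ⟶ Y) (r : ℕ) (w : (shift C r).obj Y ⟶ X)
    (h₁ : ∀ n : ℕ, u.app (op (n + r)) ≫ w.app (op n) = sm X r n)
    (h₂ : ∀ n : ℕ, w.app (op n) ≫ u.app (op n) = sm Y r n) : IsARIso u :=
  (isARIso_iff u).mpr ⟨⟨r, fun n P x hx => by
      rw [← h₁ n, ← Category.assoc]
      rw [hx, zero_comp]⟩,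
    ⟨r, fun n => .of_eq (w.app (op n)) (h₂ n).symm⟩⟩

end Abelian

end Groth.Agent.ARSysLib
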