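import Mathlib.CategoryTheory.Abelian.Basic
import Mathlib.CategoryTheory.Abelian.FunctorCategory
import Mathlib.CategoryTheory.Preadditive.Injective.Basic
import Mathlib.CategoryTheory.Functor.OfSequence

/-!
# Injectives in categories of inverse systems
-/

set_option autoImplicit false
set_option linter.style.haveILetI false

universe v u

open CategoryTheory CategoryTheory.Limits Opposite

namespace Groth.Agent.ARSysLib

variable {A : Type u} [Category.{v} A] [Abelian A]

/-- The terms of the cofree system on a sequence of objects. -/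
noncomputable def cofreeObj (J : ℕ → A) : ℕ → A
  | 0 => J 0
  | n + 1 => J (n + 1) ⊞ cofreeObj J n

/-- The cofree system on a sequence of objects. -/
noncomputable def cofree (J : ℕ → A) : ℕᵒᵖ ⥤ A :=
  Functor.ofOpSequence (X := cofreeObj J) fun _ => biprod.snd

theorem cofree_map (J : ℕ → A) (n : ℕ) :
    (cofree J).map (homOfLE (Nat.le_add_right n 1)).op =
      (biprod.snd : J (n + 1) ⊞ cofreeObj J n ⟶ cofreeObj J n) :=
  Functor.ofOpSequence_map_homOfLE_succ (X := cofreeObj J) (fun _ => biprod.snd) n

theorem cofree_injective (J : ℕ → A) [∀ n, Injective (J n)] : Injective (cofree J) := by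
  refine ⟨fun {X Y} g i _ => ?_⟩
  haveI : ∀ k, Mono (i.app k) := fun k => ((evaluation ℕᵒᵖ A).obj k).map_mono i
  let h : ∀ n, Y.obj (op n) ⟶ cofreeObj J n := fun n =>
    Nat.rec (motive := fun n => Y.obj (op n) ⟶ cofreeObj J n)
      (Injective.factorThru (J := J 0) (g.app (op 0)) (i.app (op 0)))
      (fun n hn => biprod.lift
        (Injective.factorThru (J := J (n + 1))
          ((g.app (op (n + 1)) : X.obj (op (n + 1)) ⟶ J (n + 1) ⊞ cofreeObj J n) ≫ biprod.fst)
          (i.app (op (n + 1))))
        (Y.map (homOfLE (Nat.le_add_right n 1)).op ≫ hn)) n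
  have hh : ∀ n, i.app (op n) ≫ h n = g.app (op n) := by
    intro n
    induction n with
    | zero => exact Injective.comp_factorThru (J := J 0) (g.app (op 0)) (i.app (op 0))
    | succ n hn =>
      show i.app (op (n + 1)) ≫ biprod.lift _ (Y.map (homOfLE (Nat.le_add_right n 1)).op ≫ h n) =
        (g.app (op (n + 1)) : X.obj (op (n + 1)) ⟶ J (n + 1) ⊞ cofreeObj J n)
      refine biprod.hom_ext _ _ ?_ ?_
      · rw [Category.assoc, biprod.lift_fst, Injective.comp_factorThru]
        rfl
      · rw [Category.assoc, biprod.lift_snd, ← i.naturality_assoc, hn]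
        exact (g.naturality _).trans (congrArg _ (cofree_map J n))
  refine ⟨NatTrans.ofOpSequence h fun n => ?_, ?_⟩
  · refine Eq.trans ?_ (congrArg (h (n + 1) ≫ ·) (cofree_map J n).symm)
    exact (biprod.lift_snd _ _).symm
  · ext n
    exact hh n.unop

theorem exists_mono_cofree [EnoughInjectives A] (X : ℕᵒᵖ ⥤ A) :
    ∃ ι : X ⟶ cofree (fun n => Injective.under (X.obj (op n))), Mono ι := by
  let e : ∀ n, X.obj (op n) ⟶ cofreeObj (fun n => Injective.under (X.obj (op n))) n := fun n =>
    Nat.rec (motive := fun n => X.obj (op n) ⟶ cofreeObj (fun n => Injective.under (X.obj (op n))) n)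
      (Injective.ι _)
      (fun n hn => biprod.lift (Injective.ι _) (X.map (homOfLE (Nat.le_add_right n 1)).op ≫ hn)) n
  have hmono : ∀ n, Mono (e n) := by
    intro n
    cases n with
    | zero => exact inferInstanceAs (Mono (Injective.ι _))
    | succ n =>
      show Mono (biprod.lift (Injective.ι (X.obj (op (n + 1)))) _)
      exact mono_of_mono_fac (biprod.lift_fst _ _)
  let ι : X ⟶ cofree (fun n => Injective.under (X.obj (op n))) :=
    NatTrans.ofOpSequence e fun n => by
      refine Eq.trans ?_ (congrArg (e (n + 1) ≫ ·)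
        (cofree_map (fun n => Injective.under (X.obj (op n))) n).symm)
      exact (biprod.lift_snd _ _).symm
  haveI : ∀ k, Mono (ι.app k) := fun k => hmono k.unop
  exact ⟨ι, NatTrans.mono_of_mono_app ι⟩

/-- The objects of the system concentrated in degree zero. -/
noncomputable def atZeroObj (M : A) : ℕ → A
  | 0 => M
  | _ + 1 => ⊥_ A

/-- The system concentrated in degree zero. -/
noncomputable def atZero (M : A) : ℕᵒᵖ ⥤ A :=
  Functor.ofOpSequence (X := atZeroObj M) fun _ => 0

theorem atZero_isZero (M : A) (n : ℕ) : IsZero ((atZero M).obj (op (n + 1))) :=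
  initialIsInitial.isZero

/-- Morphisms out of a system concentrated in degree zero. -/
noncomputable def atZeroHom {M : A} {X : ℕᵒᵖ ⥤ A} (f : M ⟶ X.obj (op 0)) : atZero M ⟶ X :=
  NatTrans.ofOpSequence (fun n => match n with | 0 => f | _ + 1 => 0) fun n =>
    (atZero_isZero M n).eq_of_src _ _

theorem injective_app_zero (I : ℕᵒᵖ ⥤ A) [Injective I] : Injective (I.obj (op 0)) := by
  refine ⟨fun {X Y} g i _ => ?_⟩
  let Li : atZero X ⟶ atZero Y := atZeroHom (X := atZero Y) i
  haveI : ∀ k, Mono (Li.app k) := by
    rintro ⟨k⟩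
    cases k with
    | zero => exact ‹Mono i›
    | succ n => exact ⟨fun a b _ => (atZero_isZero X n).eq_of_tgt a b⟩
  haveI : Mono Li := NatTrans.mono_of_mono_app Li
  have e := congrArg (fun m => NatTrans.app m (op 0)) (Injective.comp_factorThru (atZeroHom g) Li)
  refine ⟨(Injective.factorThru (atZeroHom g) Li).app (op 0), ?_⟩
  show Li.app (op 0) ≫ _ = (atZeroHom g).app (op 0)
  exact (NatTrans.comp_app _ _ _).symm.trans e

theorem enoughInjectives_iff :
    EnoughInjectives (ℕᵒᵖ ⥤ A) ↔ EnoughInjectives A := by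
  constructor
  · intro h
    refine ⟨fun M => ?_⟩
    let P := (Functor.const ℕᵒᵖ).obj M
    haveI := injective_app_zero (Injective.under P)
    haveI : Mono ((Injective.ι P).app (op 0)) :=
      ((evaluation ℕᵒᵖ A).obj (op 0)).map_mono (Injective.ι P)
    exact ⟨⟨(Injective.under P).obj (op 0), inferInstance, (Injective.ι P).app (op 0),
      ‹Mono ((Injective.ι P).app (op 0))›⟩⟩
  · intro h
    refine ⟨fun X => ?_⟩
    obtain ⟨ι, hι⟩ := exists_mono_cofree X
    haveI := cofree_injective (fun n => Injective.under (X.obj (op n)))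
    exact ⟨⟨_, this, ι, hι⟩⟩

end Groth.Agent.ARSysLib
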