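import Mathlib.Order.OrderIsoNat
import Mathlib.Order.Hom.Basic
import Mathlib.Data.Fintype.Basic
import Mathlib.Data.Finset.Lattice.Fold
import Mathlib.Data.Fin.Tuple.Basic

/-!
# The order-theoretic basis theorem
-/

set_option autoImplicit false

namespace Groth.Agent.ARSysLib

/-- Monotone functions `ℕ → L` satisfy the ascending chain condition if `L` does. -/
theorem wellFoundedGT_natHom {L : Type*} [PartialOrder L] [WellFoundedGT L] :
    WellFoundedGT (ℕ →o L) := by
  rw [wellFoundedGT_iff_monotone_chain_condition]
  intro N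
  have acc : ∀ f : ℕ →o L, ∃ n, ∀ m, n ≤ m → f n = f m :=
    wellFoundedGT_iff_monotone_chain_condition.mp inferInstance
  obtain ⟨p, hp⟩ := acc ⟨fun k => N k k, fun a b h => (N.monotone h a).trans ((N b).monotone h)⟩
  have col : ∀ n, ∃ q, ∀ k, q ≤ k → N q n = N k n := fun n =>
    acc ⟨fun k => N k n, fun a b h => N.monotone h n⟩
  choose q hq using col
  refine ⟨max p ((Finset.range p).sup q), fun k hk => ?_⟩
  refine le_antisymm (N.monotone hk) fun n => ?_
  by_cases hn : n < p
  · have h1 : q n ≤ max p ((Finset.range p).sup q) :=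
      (Finset.le_sup (f := q) (Finset.mem_range.mpr hn)).trans (le_max_right _ _)
    show N k n ≤ N _ n
    rw [← hq n k (h1.trans hk), ← hq n _ h1]
  · rw [not_lt] at hn
    calc N k n ≤ N (max n k) (max n k) :=
          (N.monotone (le_max_right n k) n).trans ((N _).monotone (le_max_left n k))
      _ = N p p := (hp _ (hn.trans (le_max_left n k))).symm
      _ ≤ _ := (N.monotone (le_max_left _ _) p).trans ((N _).monotone hn)

/-- Monotone functions on `ℕ^m` satisfy the ascending chain condition if the target does. -/
theorem wellFoundedGT_piHom {L : Type*} [PartialOrder L] [WellFoundedGT L] :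
    ∀ m : ℕ, WellFoundedGT ((Fin m → ℕ) →o L) := by
  intro m
  induction m with
  | zero =>
    exact StrictMono.wellFoundedGT (f := fun g : (Fin 0 → ℕ) →o L => g 0)
      (Monotone.strictMono_of_injective (fun _ _ h => h 0) fun g g' h =>
        OrderHom.ext _ _ (funext fun x => by rwa [Subsingleton.elim x 0]))
  | succ m ih =>
    haveI := wellFoundedGT_natHom (L := (Fin m → ℕ) →o L)
    refine StrictMono.wellFoundedGT (f := fun g : (Fin (m + 1) → ℕ) →o L =>
      (⟨fun k => ⟨fun x => g (Fin.cons k x), fun x y h => g.monotone (fun i => ?_)⟩,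
        fun k l h x => g.monotone (fun i => ?_)⟩ : ℕ →o ((Fin m → ℕ) →o L))) ?_
    · refine Fin.cases ?_ (fun j => ?_) i
      · exact le_rfl
      · simpa using h j
    · refine Fin.cases ?_ (fun j => ?_) i
      · simpa using h
      · simp
    · refine Monotone.strictMono_of_injective (fun g g' h k x => h _) fun g g' h => ?_
      refine OrderHom.ext _ _ (funext fun x => ?_)
      have := congrArg (fun e : ℕ →o ((Fin m → ℕ) →o L) => e (x 0) (Fin.tail x)) h
      simpa using this

end Groth.Agent.ARSysLib
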