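import Groth.Agent.ARSysLib.Adapted
import Groth.Agent.ARSysLib.Hilbert
import Groth.Agent.NoethObj
import Mathlib.Algebra.Order.Antidiag.Pi
import Mathlib.Order.PiLex
import Mathlib.Data.Finset.Max

/-!
# Graded submodules of the strict graded object of a Noetherian adic system
-/

set_option autoImplicit false
set_option linter.style.haveILetI false

universe w v u

open CategoryTheory CategoryTheory.Limits Opposite ARSys

namespace Groth.Agent.ARSysLib

variable {C : Type u} [Category.{v} C] [Abelian C]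

/-- The morphism `f` lands in the subobject `T`. -/
def Mem {X P : C} (T : Subobject X) (f : P ⟶ X) : Prop := f ≫ cokernel.π T.arrow = 0

theorem mem_arrow {X : C} (T : Subobject X) : Mem T T.arrow := cokernel.condition _

theorem mem_comp {X P Q : C} {T : Subobject X} {f : P ⟶ X} (h : Mem T f) (g : Q ⟶ P) :
    Mem T (g ≫ f) := (Category.assoc _ _ _).trans ((congrArg (g ≫ ·) h).trans comp_zero)

theorem mem_of_le {X P : C} {S T : Subobject X} (h : S ≤ T) {f : P ⟶ X} (hf : Mem S f) :
    Mem T f := by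
  have e : f = Abelian.monoLift S.arrow f hf ≫ Subobject.ofLE S T h ≫ T.arrow := by
    rw [Subobject.ofLE_arrow, Abelian.monoLift_comp]
  rw [e, ← Category.assoc]
  exact mem_comp (mem_arrow T) _

theorem le_of_mem {X : C} {S T : Subobject X} (h : Mem T S.arrow) : S ≤ T :=
  NoethObj.le_of_comp_π T S h

theorem mem_factors {X P : C} {T : Subobject X} {f : P ⟶ X} (h : Mem T f) : T.Factors f :=
  (Subobject.factors_iff _ _).2 ⟨Abelian.monoLift T.arrow f h, Abelian.monoLift_comp T.arrow f h⟩

theorem mem_of_factors {X P : C} {T : Subobject X} {f : P ⟶ X} (h : T.Factors f) : Mem T f :=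
  NoethObj.comp_π_eq_zero T f h

theorem mem_of_epi {X P Q : C} {T : Subobject X} {f : P ⟶ X} (π : Q ⟶ P) [Epi π]
    (h : Mem T (π ≫ f)) : Mem T f := by
  rw [Mem, ← cancel_epi π, comp_zero, ← Category.assoc]
  exact h

theorem mem_pullback {X Y P : C} (g : X ⟶ Y) (T : Subobject Y) (f : P ⟶ X) :
    Mem ((Subobject.pullback g).obj T) f ↔ Mem T (f ≫ g) :=
  ⟨fun h => mem_of_factors (NoethObj.factors_of_pullback g T f (mem_factors h)),
    fun h => mem_of_factors (NoethObj.factors_pullback g T f (mem_factors h))⟩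

theorem mem_inf {X P : C} {S T : Subobject X} {f : P ⟶ X} (hS : Mem S f) (hT : Mem T f) :
    Mem (S ⊓ T) f :=
  mem_of_factors ((Subobject.inf_factors _).2 ⟨mem_factors hS, mem_factors hT⟩)

theorem mem_image {X P : C} (f : P ⟶ X) : Mem (imageSubobject f) f :=
  mem_of_factors ((Subobject.factors_iff _ _).2
    ⟨factorThruImageSubobject f, imageSubobject_arrow_comp f⟩)

theorem image_le_of_mem {X P : C} {T : Subobject X} {f : P ⟶ X} (h : Mem T f) :
    imageSubobject f ≤ T :=
  imageSubobject_le f (Abelian.monoLift T.arrow f h) (Abelian.monoLift_comp _ _ _)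

theorem mem_sub {X P : C} {T : Subobject X} {f g : P ⟶ X} (hf : Mem T f) (hg : Mem T g) :
    Mem T (f - g) := by
  rw [Mem] at *
  rw [Preadditive.sub_comp, hf, hg, sub_zero]

theorem mem_add {X P : C} {T : Subobject X} {f g : P ⟶ X} (hf : Mem T f) (hg : Mem T g) :
    Mem T (f + g) := by
  rw [Mem] at *
  rw [Preadditive.add_comp, hf, hg, add_zero]

theorem mem_sup {X P : C} {S T : Subobject X} {f : P ⟶ X} (h : Mem (S ⊔ T) f) :
    ∃ (Q : C) (π : Q ⟶ P) (_ : Epi π) (x y : Q ⟶ X), Mem S x ∧ Mem T y ∧ π ≫ f = x + y := by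
  have hle : S ⊔ T ≤ imageSubobject (biprod.desc S.arrow T.arrow) := by
    refine sup_le (le_of_mem ?_) (le_of_mem ?_)
    · have := mem_comp (mem_image (biprod.desc S.arrow T.arrow)) biprod.inl
      rwa [biprod.inl_desc] at this
    · have := mem_comp (mem_image (biprod.desc S.arrow T.arrow)) biprod.inr
      rwa [biprod.inr_desc] at this
  have h' := mem_of_le hle h
  obtain ⟨Q, π, hπ, a, ha⟩ := surjective_up_to_refinements_of_epi
    (factorThruImageSubobject (biprod.desc S.arrow T.arrow)) (Abelian.monoLift _ f h')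
  refine ⟨Q, π, hπ, (a ≫ biprod.fst) ≫ S.arrow, (a ≫ biprod.snd) ≫ T.arrow,
    mem_comp (mem_arrow S) _, mem_comp (mem_arrow T) _, ?_⟩
  have e := ha =≫ (imageSubobject (biprod.desc S.arrow T.arrow)).arrow
  rw [Category.assoc, Category.assoc, Abelian.monoLift_comp, imageSubobject_arrow_comp] at e
  rw [e, biprod.desc_eq, Preadditive.comp_add, Category.assoc, Category.assoc]

section Adic

variable {A : Type w} [CommRing A] [Linear A C] {J : Ideal A} {X : PS C}

theorem exists_mul_map (hX : IsAdic J X) {q n p : ℕ} (h : q ≤ n) (hn : n ≤ p + q) {b : A}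
    (hb : b ∈ J ^ p) : ∃ β : X.obj (op q) ⟶ X.obj (op n), tr X h ≫ β = b • 𝟙 _ :=
  isQuot_factor (hX.2 q n h) _ fun c hc => by
    rw [smul_smul]
    refine hX.1 n _ (Ideal.pow_le_pow_right (show n + 1 ≤ (q + 1) + p by omega) ?_)
    rw [pow_add]
    exact Ideal.mul_mem_mul hc hb

variable {m : ℕ}

/-- Monomials in the generators. -/
def mon (a : Fin m → A) (e : Fin m → ℕ) : A := ∏ i, a i ^ e i

theorem mon_add (a : Fin m → A) (e f : Fin m → ℕ) : mon a (e + f) = mon a e * mon a f := by
  simp only [mon, Pi.add_apply, pow_add, Finset.prod_mul_distrib]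

theorem mon_mem {a : Fin m → A} (ha : Ideal.span (Set.range a) = J) (e : Fin m → ℕ) :
    mon a e ∈ J ^ ∑ i, e i := by
  have h := Ideal.prod_mem_prod (s := (Finset.univ : Finset (Fin m)))
    (x := fun i => a i ^ e i) (I := fun i => J ^ e i)
    (fun i _ => Ideal.pow_mem_pow (ha ▸ Ideal.subset_span ⟨i, rfl⟩) _)
  rwa [Finset.prod_pow_eq_pow_sum] at h

theorem pow_le_span_mon {a : Fin m → A} (ha : Ideal.span (Set.range a) = J) (n : ℕ) :
    J ^ n ≤ Ideal.span (mon a '' {e | ∑ i, e i = n}) := by
  induction n with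
  | zero =>
    rw [pow_zero, Ideal.one_eq_top]
    have h1 : (1 : A) ∈ Ideal.span (mon a '' {e | ∑ i, e i = 0}) :=
      Ideal.subset_span ⟨0, by simp, by simp [mon]⟩
    rw [(Ideal.eq_top_iff_one _).mpr h1]
  | succ n ih =>
    rw [pow_succ]
    refine le_trans (Ideal.mul_mono ih ha.ge) ?_
    rw [Ideal.span_mul_span']
    refine Ideal.span_mono ?_
    rintro _ ⟨_, ⟨e, he, rfl⟩, _, ⟨i, rfl⟩, rfl⟩
    refine ⟨e + (Pi.single i 1 : Fin m → ℕ), ?_, ?_⟩
    · show ∑ j, (e + (Pi.single i 1 : Fin m → ℕ)) j = n + 1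
      simp only [Pi.add_apply, Finset.sum_add_distrib]
      rw [show ∑ j, e j = n from he, Finset.sum_pi_single']
      simp
    · rw [mon_add]
      congr 1
      rw [mon, Finset.prod_eq_single i (fun j _ hj => by rw [Pi.single_eq_of_ne hj, pow_zero])
        (fun h => absurd (Finset.mem_univ i) h), Pi.single_eq_same, pow_one]

theorem isGrSub_mem {M : (q : ℕ) → Subobject (X.obj (op q))} (hM : IsGrSub J X M)
    (hs : IsStrict X) {p q : ℕ} {b : A} (hb : b ∈ J ^ p) (β : X.obj (op q) ⟶ X.obj (op (p + q)))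
    (hβ : tr X (Nat.le_add_left q p) ≫ β = b • 𝟙 _) : Mem (M (p + q)) ((M q).arrow ≫ β) := by
  haveI := hs q (p + q) (Nat.le_add_left q p)
  obtain ⟨P, π, hπ, y, hy⟩ :=
    surjective_up_to_refinements_of_epi (tr X (Nat.le_add_left q p)) (M q).arrow
  refine mem_of_epi π ?_
  rw [← Category.assoc, hy, Category.assoc, hβ]
  have hy' : Mem ((Subobject.pullback (tr X (Nat.le_add_left q p))).obj (M q)) y := by
    rw [mem_pullback, ← hy]
    exact mem_comp (mem_arrow _) _
  rw [← Abelian.monoLift_comp _ _ hy', Category.assoc]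
  exact mem_comp (mem_of_le (hM.2 p q b hb) (mem_image _)) _

open scoped Classical in
/-- Graded submodules of a Noetherian adic system satisfy the ascending chain condition. -/
theorem grSub_stabilize [IsNoetherianRing A] (hX : IsAdicNoeth J X)
    (M : ℕ → (q : ℕ) → Subobject (X.obj (op q))) (hM : ∀ i : ℕ, IsGrSub J X (M i))
    (hmono : Monotone M) : ∃ i₀ : ℕ, ∀ i : ℕ, i₀ ≤ i → M i = M i₀ := by
  obtain ⟨m, a, ha⟩ := Submodule.fg_iff_exists_fin_generating_family.mp
    (IsNoetherian.noetherian J)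
  have hs : IsStrict X := isStrict_of_isAdic hX.1
  have hψ : ∀ (n : ℕ) (e : Fin m → ℕ), ∃ ψ : X.obj (op 0) ⟶ X.obj (op n),
      ∑ i, e i = n → tr X (Nat.zero_le n) ≫ ψ = mon a e • 𝟙 _ := by
    intro n e
    by_cases h : ∑ i, e i = n
    · obtain ⟨ψ, hψ⟩ := exists_mul_map hX.1 (p := n) (Nat.zero_le n) (Nat.le_add_right _ _)
        (h ▸ mon_mem ha e)
      exact ⟨ψ, fun _ => hψ⟩
    · exact ⟨0, fun h' => absurd h' h⟩
  choose ψ hψ using hψ
  let G : ∀ n, Finset (Lex (Fin m → ℕ)) → Subobject (X.obj (op n)) :=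
    fun n s => s.sup fun e => imageSubobject (ψ n (ofLex e))
  let D : ℕ → Finset (Lex (Fin m → ℕ)) := fun n =>
    ((Finset.univ : Finset (Fin m)).piAntidiag n).map toLex.toEmbedding
  have hD : ∀ n e, e ∈ D n ↔ ∑ i, ofLex e i = n := fun n e => by
    simp [D, Finset.mem_piAntidiag, Finset.mem_map_equiv]
  let below : ℕ → (Fin m → ℕ) → Finset (Lex (Fin m → ℕ)) := fun n e =>
    (D n).filter (· < toLex e)
  let L : ∀ (i n : ℕ), (Fin m → ℕ) → Subobject (X.obj (op 0)) := fun i n e =>
    (Subobject.pullback (ψ n e)).obj (M i n ⊔ G n (below n e))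
  have Lmono : ∀ (i p q : ℕ) (e d : Fin m → ℕ), ∑ j, e j = q → ∑ j, d j = p →
      L i q e ≤ L i (p + q) (e + d) := by
    intro i p q e d he hd
    obtain ⟨β, hβ⟩ := exists_mul_map hX.1 (Nat.le_add_left q p) le_rfl (hd ▸ mon_mem ha d)
    have hcomp : ∀ e' : Fin m → ℕ, ∑ j, e' j = q → ψ q e' ≫ β = ψ (p + q) (e' + d) := by
      intro e' he'
      haveI := hs 0 (p + q) (Nat.zero_le _)
      rw [← cancel_epi (tr X (Nat.zero_le (p + q))), hψ (p + q) (e' + d) (by
        simp only [Pi.add_apply, Finset.sum_add_distrib, he', hd]; omega),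
        ← tr_tr X (Nat.zero_le q) (Nat.le_add_left q p), Category.assoc,
        reassoc_of% (hψ q e' he'), Linear.smul_comp, Category.id_comp, Linear.comp_smul, hβ,
        smul_smul, mon_add]
    have hsup : M i q ⊔ G q (below q e) ≤
        (Subobject.pullback β).obj (M i (p + q) ⊔ G (p + q) (below (p + q) (e + d))) := by
      refine sup_le (le_of_mem ?_) (Finset.sup_le fun e' he' => ?_)
      · rw [mem_pullback]
        exact mem_of_le le_sup_left (isGrSub_mem (hM i) hs (hd ▸ mon_mem ha d) β hβ)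
      · obtain ⟨he'q, hlt⟩ := Finset.mem_filter.mp he'
        rw [hD] at he'q
        refine image_le_of_mem ?_
        rw [mem_pullback, hcomp _ he'q]
        refine mem_of_le (le_sup_of_le_right ?_) (mem_image _)
        refine Finset.le_sup (f := fun x => imageSubobject (ψ (p + q) (ofLex x)))
          (b := toLex (ofLex e' + d)) ?_
        refine Finset.mem_filter.mpr ⟨(hD _ _).mpr ?_, ?_⟩
        · show ∑ j, (ofLex e' + d) j = p + q
          simp only [Pi.add_apply, Finset.sum_add_distrib, he'q, hd]; omega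
        · obtain ⟨j, hj, hlt'⟩ := hlt
          exact ⟨j, fun k hk => congrArg (· + d k) (hj k hk), Nat.add_lt_add_right hlt' (d j)⟩
    refine le_of_mem ?_
    rw [mem_pullback, ← hcomp e he, ← Category.assoc, ← mem_pullback]
    exact mem_of_le hsup ((mem_pullback _ _ _).mp (mem_arrow _))
  let N : ℕ →o ((Fin m → ℕ) →o Subobject (X.obj (op 0))) :=
    ⟨fun i => ⟨fun e => L i (∑ j, e j) e, fun e e' h => by
      obtain ⟨d, rfl⟩ : ∃ d, e' = e + d :=
        ⟨fun j => e' j - e j, funext fun j => (Nat.add_sub_cancel' (h j)).symm⟩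
      have := Lmono i (∑ j, d j) (∑ j, e j) e d rfl rfl
      rw [show (∑ j, d j) + ∑ j, e j = ∑ j, (e + d) j by
        simp only [Pi.add_apply, Finset.sum_add_distrib]; omega] at this
      exact this⟩,
    fun i i' h e => (Subobject.pullback _).monotone (sup_le_sup_right (hmono h _) _)⟩
  haveI : IsNoetherianObject (X.obj (op 0)) := hX.2 0
  haveI := wellFoundedGT_piHom (L := Subobject (X.obj (op 0))) m
  obtain ⟨i₀, hi₀⟩ := wellFoundedGT_iff_monotone_chain_condition.mp inferInstance N
  refine ⟨i₀, fun i hi => funext fun n => le_antisymm ?_ (hmono hi n)⟩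
  have hL : ∀ e : Fin m → ℕ, ∑ j, e j = n → L i n e = L i₀ n e := by
    rintro e rfl
    exact (congrArg (fun f : (Fin m → ℕ) →o Subobject (X.obj (op 0)) => f e) (hi₀ i hi)).symm
  have hgen : Fsub X n n ≤ G n (D n) := by
    refine le_of_mem ?_
    have hk : HomKilledBy (J ^ n) (cokernel.π (G n (D n)).arrow) := by
      intro b hb
      have hb' := pow_le_span_mon ha n hb
      clear hb
      induction hb' using Submodule.span_induction with
      | mem x hx =>
        obtain ⟨e, he, rfl⟩ := hx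
        have h0 : ψ n e ≫ cokernel.π (G n (D n)).arrow = 0 :=
          mem_of_le (Finset.le_sup (f := fun x => imageSubobject (ψ n (ofLex x)))
            (b := toLex e) ((hD _ _).mpr he)) (mem_image _)
        calc mon a e • cokernel.π (G n (D n)).arrow
            = (mon a e • 𝟙 _) ≫ cokernel.π (G n (D n)).arrow := by
              rw [Linear.smul_comp, Category.id_comp]
          _ = 0 := by rw [← hψ n e he, Category.assoc, h0, comp_zero]
      | zero => exact zero_smul A _
      | add x y _ _ hx hy => rw [add_smul, hx, hy, add_zero]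
      | smul c x _ hx => rw [smul_eq_mul, mul_smul, hx, smul_zero]
    cases n with
    | zero =>
      have h1 := hk 1 (by rw [pow_zero, Ideal.one_eq_top]; trivial)
      rw [one_smul] at h1
      rw [Mem, h1, comp_zero]
    | succ k =>
      obtain ⟨χ, hχ⟩ := isQuot_factor (hX.1.2 k (k + 1) (Nat.le_succ k)) _ hk
      rw [Mem, ← hχ, ← Category.assoc, arrow_tr_Fsub X k rfl (Nat.le_succ k), zero_comp]
  have key : ∀ s : Finset (Lex (Fin m → ℕ)), s ⊆ D n →
      (∀ x ∈ s, ∀ y ∈ D n, y < x → y ∈ s) → M i n ⊓ G n s ≤ M i₀ n := by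
    intro s
    induction s using Finset.induction_on_max with
    | empty =>
      intro _ _
      simp [G]
    | insert x s hlt ih =>
      intro hsub hclosed
      have hbelow : below n (ofLex x) = s := by
        ext y
        rw [Finset.mem_filter]
        refine ⟨fun ⟨hy, hyx⟩ => ?_, fun hy => ⟨hsub (Finset.mem_insert_of_mem hy), hlt y hy⟩⟩
        exact (Finset.mem_insert.mp (hclosed x (Finset.mem_insert_self x s) y hy hyx)).resolve_left
          hyx.ne
      have hx : ∑ j, ofLex x j = n := (hD _ _).mp (hsub (Finset.mem_insert_self x s))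
      have ih' : M i n ⊓ G n s ≤ M i₀ n :=
        ih (fun y hy => hsub (Finset.mem_insert_of_mem hy)) fun z hz y hy hyz =>
          (Finset.mem_insert.mp (hclosed z (Finset.mem_insert_of_mem hz) y hy hyz)).resolve_left
            (hyz.trans (hlt z hz)).ne
      refine le_of_mem ?_
      let y := (M i n ⊓ G n (insert x s)).arrow
      have hyM : Mem (M i n) y := mem_of_le inf_le_left (mem_arrow _)
      have hyG : Mem (imageSubobject (ψ n (ofLex x)) ⊔ G n s) y := by
        have e : G n (insert x s) = imageSubobject (ψ n (ofLex x)) ⊔ G n s := Finset.sup_insert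
        exact mem_of_le e.le (mem_of_le inf_le_right (mem_arrow _))
      obtain ⟨P, π, hπ, u, g, hu, hg, e1⟩ := mem_sup hyG
      obtain ⟨P₁, π₁, hπ₁, z, hz⟩ := surjective_up_to_refinements_of_epi
        (factorThruImageSubobject (ψ n (ofLex x))) (Abelian.monoLift _ u hu)
      have hz' : π₁ ≫ u = z ≫ ψ n (ofLex x) := by
        have := hz =≫ (imageSubobject (ψ n (ofLex x))).arrow
        rwa [Category.assoc, Category.assoc, Abelian.monoLift_comp, imageSubobject_arrow_comp]
          at this
      have hu' : Mem (M i n ⊔ G n s) u := by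
        rw [show u = π ≫ y - g by rw [e1, add_sub_cancel_right]]
        exact mem_sub (mem_of_le le_sup_left (mem_comp hyM _)) (mem_of_le le_sup_right hg)
      have hzL : Mem (L i n (ofLex x)) z := by
        rw [mem_pullback, hbelow, ← hz']
        exact mem_comp hu' _
      rw [hL _ hx, mem_pullback, hbelow, ← hz'] at hzL
      obtain ⟨P₂, π₂, hπ₂, v, g', hv, hg', e2⟩ := mem_sup hzL
      have e3 : (π₂ ≫ π₁ ≫ π) ≫ y = v + (g' + π₂ ≫ π₁ ≫ g) := by
        rw [Category.assoc, Category.assoc, e1, Preadditive.comp_add, Preadditive.comp_add, e2]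
        abel
      have hG' : Mem (G n s) (g' + π₂ ≫ π₁ ≫ g) := mem_add hg' (mem_comp (mem_comp hg _) _)
      have hM' : Mem (M i n) (g' + π₂ ≫ π₁ ≫ g) := by
        rw [show g' + π₂ ≫ π₁ ≫ g = (π₂ ≫ π₁ ≫ π) ≫ y - v by rw [e3, add_sub_cancel_left]]
        exact mem_sub (mem_comp hyM _) (mem_of_le (hmono hi n) hv)
      refine mem_of_epi (π₂ ≫ π₁ ≫ π) ?_
      rw [e3]
      exact mem_add hv (mem_of_le ih' (mem_inf hM' hG'))
  exact (le_inf le_rfl ((hM i).1 n |>.trans hgen)).trans
    (key (D n) subset_rfl (fun _ _ y hy _ => hy))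

end Adic

end Groth.Agent.ARSysLib
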