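import Groth.Agent.ARSysLib.Graded
import Groth.Agent.ARSysLib.Ext

/-!
# Subsystems of Noetherian adic systems
-/

set_option autoImplicit false
set_option linter.style.haveILetI false

universe w v u

open CategoryTheory CategoryTheory.Limits Opposite ARSys

namespace Groth.Agent.ARSysLib

variable {C : Type u} [Category.{v} C] [Abelian C]

theorem Fker_eq (X : PS C) : ∀ n, Fker X n = Fsub X n n
  | 0 => rfl
  | k + 1 => (dif_pos (Nat.le_succ k) : Fsub X (k + 1) (k + 1) = _).symm

theorem isMLAR_of_isStrict {X : PS C} (hX : IsStrict X) : IsMLAR X :=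
  (isMLAR_iff X).mpr ⟨0, fun s _ n => by
    haveI : Epi (sm X s n) := hX _ _ _
    obtain ⟨P, π, hπ, a, ha⟩ := surjective_up_to_refinements_of_epi (sm X s n) (sm X 0 n)
    exact ⟨P, π, hπ, a, ha⟩⟩

theorem mem_image_iff {X Y P : C} {f : Y ⟶ X} {x : P ⟶ X} :
    Mem (imageSubobject f) x ↔
      ∃ (Q : C) (π : Q ⟶ P) (_ : Epi π) (y : Q ⟶ Y), π ≫ x = y ≫ f := by
  constructor
  · intro h
    obtain ⟨Q, π, hπ, y, hy⟩ := surjective_up_to_refinements_of_epi (factorThruImageSubobject f)
      (Abelian.monoLift _ x h)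
    refine ⟨Q, π, hπ, y, ?_⟩
    have := hy =≫ (imageSubobject f).arrow
    rwa [Category.assoc, Category.assoc, Abelian.monoLift_comp, imageSubobject_arrow_comp] at this
  · rintro ⟨Q, π, hπ, y, hy⟩
    refine mem_of_epi π ?_
    rw [hy]
    exact mem_comp (mem_image f) y

theorem mem_Fsub (X : PS C) {P : C} (q n : ℕ) (h : q ≤ n + 1) (x : P ⟶ X.obj (op n))
    (h₁ : ∀ k, k + 1 = q → ∀ h : k ≤ n, x ≫ tr X h = 0) : Mem (Fsub X q n) x :=
  mem_of_le (le_Fsub X q n x h₁ (fun h' => absurd h' (by omega))) (mem_image x)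

theorem comp_tr_of_mem_Fsub (X : PS C) {P : C} {q n k : ℕ} (hk : k + 1 = q) (h : k ≤ n)
    {x : P ⟶ X.obj (op n)} (hx : Mem (Fsub X q n) x) : x ≫ tr X h = 0 := by
  rw [← Abelian.monoLift_comp _ x hx, Category.assoc, arrow_tr_Fsub X k hk h, comp_zero]

variable {A : Type w} [CommRing A] [Linear A C] {J : Ideal A}

theorem termKilled_of_adapted {X : PS C} (h : IsAdapted J X) : TermKilled J X := fun n a ha => by
  have h0 := h n (n + 1) le_rfl a ha
  rw [Nat.sub_self] at h0
  haveI : IsIso (Fsub X 0 n).arrow := by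
    show IsIso (⊤ : Subobject (X.obj (op n))).arrow
    infer_instance
  exact (cancel_epi (Fsub X 0 n).arrow).mp (h0.trans comp_zero.symm)

theorem adapted_of_mono {X S : PS C} (hX : IsAdic J X) (j : S ⟶ X) [Mono j] :
    IsAdapted J S := by
  intro n p hp a ha
  haveI : Mono (j.app (op n)) := ((evaluation ℕᵒᵖ C).obj (op n)).map_mono j
  rw [← cancel_mono (j.app (op n)), zero_comp, Category.assoc, Linear.smul_comp, Category.id_comp]
  rcases Nat.lt_or_ge p (n + 1) with hlt | hge
  · obtain ⟨k, hk⟩ : ∃ k, k + 1 = n + 1 - p := ⟨n - p, by omega⟩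
    obtain ⟨β, hβ⟩ := exists_mul_map hX (show k ≤ n by omega) (show n ≤ p + k by omega) ha
    have e : a • j.app (op n) = j.app (op n) ≫ tr X (show k ≤ n by omega) ≫ β := by
      rw [hβ, Linear.comp_smul, Category.comp_id]
    rw [e, ← reassoc_of% (tr_app j (show k ≤ n by omega)),
      reassoc_of% (arrow_tr_Fsub S k hk (show k ≤ n by omega)), zero_comp]
  · rw [homKilled_of_killed (hX.1 n) (j.app (op n)) a (Ideal.pow_le_pow_right hge ha), comp_zero]

theorem isARAdic_of_finiteType (hJ : J.FG ∨ HasCoproducts.{w} C) {X : PS C} (hX : IsStrict X)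
    (hA : IsAdapted J X) (hft : GrsFiniteType J X) : IsARAdic J X := by
  have hk := termKilled_of_adapted hA
  choose Q p hp using fun (r q : ℕ) => exists_isQuot J hJ (q - r) (X.obj (op q))
  let M : ℕ → (q : ℕ) → Subobject (X.obj (op q)) := fun r q =>
    Fsub X q q ⊓ kernelSubobject (p r q)
  have hgr : ∀ r, IsGrSub J X (M r) := by
    intro r
    refine ⟨fun q => inf_le_left, fun s q a ha => image_le_of_mem ?_⟩
    let x := ((Subobject.pullback (tr X (Nat.le_add_left q s))).obj (M r q)).arrow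
    have hx : Mem (M r q) (x ≫ tr X (Nat.le_add_left q s)) :=
      (mem_pullback _ _ _).mp (mem_arrow _)
    refine mem_inf ?_ ?_
    · have hF : Mem (Fsub X q (s + q)) x := mem_Fsub X q (s + q) (by omega) x fun k hk' hkn => by
        rw [← tr_tr X (show k ≤ q by omega) (Nat.le_add_left q s), ← Category.assoc]
        exact comp_tr_of_mem_Fsub X hk' _ (mem_of_le inf_le_left hx)
      have h' := (isAdapted_iff J X).mp hA (s + q) s q a ha
      show Mem _ (x ≫ _)
      rw [← Abelian.monoLift_comp _ x hF, Category.assoc]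
      exact mem_comp (mem_of_le h' (mem_image _)) _
    · obtain ⟨χ, hχ⟩ : ∃ χ, tr X (Nat.le_add_left q s) ≫ χ = a • p r (s + q) := by
        haveI := hX q (s + q) (Nat.le_add_left q s)
        refine ⟨Abelian.epiDesc (tr X (Nat.le_add_left q s)) (a • p r (s + q)) ?_,
          Abelian.comp_epiDesc _ _ _⟩
        have hker : Mem (Fsub X (s + q + 1 - s) (s + q))
            (kernel.ι (tr X (Nat.le_add_left q s))) :=
          mem_Fsub X _ _ (by omega) _ fun k hk' hkn => by
            obtain rfl : k = q := by omega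
            exact kernel.condition _
        have h0 : kernel.ι (tr X (Nat.le_add_left q s)) ≫ (a • 𝟙 (X.obj (op (s + q)))) = 0 := by
          rw [← Abelian.monoLift_comp _ _ hker, Category.assoc, hA (s + q) s (by omega) a ha,
            comp_zero]
        rw [show a • p r (s + q) = (a • 𝟙 _) ≫ p r (s + q) by rw [Linear.smul_comp, Category.id_comp],
          ← Category.assoc, h0, zero_comp]
      haveI := hX q (s + q) (Nat.le_add_left q s)
      obtain ⟨χ', hχ'⟩ := isQuot_factor (hp r q) χ (homKilled_of_epi (tr X (Nat.le_add_left q s))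
        (by
          rw [hχ]
          intro c hc
          rw [smul_smul]
          refine homKilled_of_killed (hp r (s + q)).1 _ _
            (Ideal.pow_le_pow_right (show s + q - r ≤ (q - r) + s by omega) ?_)
          rw [pow_add]
          exact Ideal.mul_mem_mul hc ha))
      have e : (x ≫ (a • 𝟙 (X.obj (op (s + q))))) ≫ p r (s + q) = 0 := by
        rw [Category.assoc, Linear.smul_comp, Category.id_comp, ← hχ, ← hχ', ← Category.assoc,
          ← Category.assoc]
        have h0 : (x ≫ tr X (Nat.le_add_left q s)) ≫ p r q = 0 := by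
          rw [← Abelian.monoLift_comp _ _ (mem_of_le inf_le_right hx), Category.assoc,
            kernelSubobject_arrow_comp, comp_zero]
        rw [h0, zero_comp]
      exact mem_of_factors (kernelSubobject_factors _ _ e)
  have hle : ∀ {r r' q : ℕ}, r ≤ r' → M r q ≤ M r' q := fun {r r' q} h => by
    obtain ⟨χ, hχ⟩ := isQuot_factor (hp r q) (p r' q)
      (homKilled_mono (Ideal.pow_le_pow_right (by omega)) (homKilled_of_killed (hp r' q).1 _))
    exact inf_le_inf_left _ (by rw [← hχ]; exact kernelSubobject_comp_le _ _)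
  have hlub : ∀ q, IsLUB (Set.range fun i => M i q) (Fsub X q q) := by
    intro q
    refine ⟨by rintro _ ⟨i, rfl⟩; exact inf_le_left, fun S hS => le_trans ?_ (hS ⟨q, rfl⟩)⟩
    refine le_inf le_rfl ?_
    have h0 : p q q = 0 := by
      have := homKilled_of_killed (hp q q).1 (p q q) 1
        (by rw [Nat.sub_self, pow_zero, Ideal.one_eq_top]; trivial)
      rwa [one_smul] at this
    exact le_of_mem (mem_of_factors (kernelSubobject_factors _ _ (by rw [h0, comp_zero])))
  obtain ⟨r, hr⟩ := hft M hgr (fun i j h q => hle h) hlub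
  have hsub : ∀ n, SubLEIdeal (J ^ (n - r)) (Fker X n) := by
    intro n W φ hφ
    obtain ⟨χ, hχ⟩ := isQuot_factor (hp r n) φ hφ
    have hle' : Fker X n ≤ kernelSubobject (p r n) := by
      rw [Fker_eq, ← hr n]
      exact inf_le_right
    rw [← Subobject.ofLE_arrow hle', Category.assoc, ← hχ,
      reassoc_of% (kernelSubobject_arrow_comp (p r n)), zero_comp, comp_zero]
  obtain ⟨Y, q, hq, hY⟩ := exists_quot_of_subLEIdeal hJ hX r hsub
  exact isARAdic_of_quot hX hk r q hq hY

variable [IsNoetherianRing A]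

theorem grsFiniteType_of_mono {X S : PS C} (hX : IsAdicNoeth J X) (j : S ⟶ X) [Mono j]
    (hS : IsStrict S) : GrsFiniteType J S := by
  intro M hM hmono hlub
  haveI : ∀ k, Mono (j.app k) := fun k => ((evaluation ℕᵒᵖ C).obj k).map_mono j
  let M' : ℕ → (q : ℕ) → Subobject (X.obj (op q)) := fun i q =>
    imageSubobject ((M i q).arrow ≫ j.app (op q))
  have hgr : ∀ i, IsGrSub J X (M' i) := by
    intro i
    refine ⟨fun q => image_le_of_mem (mem_Fsub X q q (by omega) _ fun k hk hkn => ?_),
      fun p q a ha => image_le_of_mem ?_⟩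
    · rw [Category.assoc, ← tr_app j, ← Category.assoc,
        comp_tr_of_mem_Fsub S hk hkn (mem_of_le ((hM i).1 q) (mem_arrow _)), zero_comp]
    · let y := ((Subobject.pullback (tr X (Nat.le_add_left q p))).obj (M' i q)).arrow
      have hy : Mem (M' i q) (y ≫ tr X (Nat.le_add_left q p)) :=
        (mem_pullback _ _ _).mp (mem_arrow _)
      obtain ⟨P, π, hπ, z, hz⟩ := mem_image_iff.mp hy
      haveI := hS q (p + q) (Nat.le_add_left q p)
      obtain ⟨P', π', hπ', z', hz'⟩ :=
        surjective_up_to_refinements_of_epi (tr S (Nat.le_add_left q p)) (z ≫ (M i q).arrow)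
      obtain ⟨β, hβ⟩ := exists_mul_map hX.1 (Nat.le_add_left q p) le_rfl ha
      refine mem_of_epi (π' ≫ π) ?_
      have e : (π' ≫ π) ≫ y ≫ (a • 𝟙 (X.obj (op (p + q)))) =
          (z' ≫ (a • 𝟙 (S.obj (op (p + q))))) ≫ j.app (op (p + q)) := by
        rw [← hβ, Category.assoc, reassoc_of% hz]
        simp only [Category.assoc]
        rw [reassoc_of% hz', reassoc_of% (tr_app j), hβ]
        simp only [Linear.comp_smul, Category.comp_id, Linear.smul_comp, Category.assoc,
          Category.id_comp]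
      rw [e]
      have hz'' : Mem ((Subobject.pullback (tr S (Nat.le_add_left q p))).obj (M i q)) z' := by
        rw [mem_pullback, ← hz', ← Category.assoc]
        exact mem_comp (mem_arrow _) _
      have h2 : Mem (M i (p + q)) (z' ≫ (a • 𝟙 (S.obj (op (p + q))))) := by
        rw [← Abelian.monoLift_comp _ z' hz'', Category.assoc]
        exact mem_comp (mem_of_le ((hM i).2 p q a ha) (mem_image _)) _
      rw [← Abelian.monoLift_comp _ _ h2, Category.assoc]
      exact mem_comp (mem_image _) _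
  obtain ⟨i₀, hi₀⟩ := grSub_stabilize hX M' hgr fun i i' h q => image_le_of_mem (by
    rw [← Subobject.ofLE_arrow (hmono h q), Category.assoc]
    exact mem_comp (mem_image _) _)
  refine ⟨i₀, fun q => le_antisymm ((hM i₀).1 q) ((hlub q).2 ?_)⟩
  rintro _ ⟨i, rfl⟩
  refine (hmono (le_max_left i i₀) q).trans (le_of_mem ?_)
  have h := congrFun (hi₀ (max i i₀) (le_max_right i i₀)) q
  obtain ⟨P, π, hπ, z, hz⟩ := mem_image_iff.mp
    (mem_of_le h.le (mem_image ((M (max i i₀) q).arrow ≫ j.app (op q))))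
  refine mem_of_epi π ?_
  rw [← Category.assoc, ← Category.assoc z, cancel_mono] at hz
  rw [hz]
  exact mem_comp (mem_arrow _) _

theorem isARAdicNoeth_of_mono {X S : PS C} (hX : IsAdicNoeth J X) (j : S ⟶ X) [Mono j]
    (hS : IsStrict S) : IsARAdicNoeth J S :=
  ⟨isARAdic_of_finiteType (Or.inl (IsNoetherian.noetherian J)) hS (adapted_of_mono hX.1 j)
    (grsFiniteType_of_mono hX j hS), fun n =>
      haveI : Mono (j.app (op n)) := ((evaluation ℕᵒᵖ C).obj (op n)).map_mono j
      haveI := hX.2 n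
      isNoetherianObject_of_mono (j.app (op n))⟩

theorem strictSub_stabilize {X : PS C} (hX : IsAdicNoeth J X) (Z : ℕ →o Subobject X)
    (hZ : ∀ k : ℕ, IsStrict ((Subobject.underlying.obj (Z k) : PS C))) :
    ∃ k₀ : ℕ, ∀ k : ℕ, k₀ ≤ k → Z k = Z k₀ := by
  haveI : ∀ k l, Mono ((Z k).arrow.app l) := fun k l =>
    ((evaluation ℕᵒᵖ C).obj l).map_mono (Z k).arrow
  have hadapt : IsAdapted J X := adapted_of_mono hX.1 (𝟙 X)
  let M : ℕ → (q : ℕ) → Subobject (X.obj (op q)) := fun k q =>
    Fsub X q q ⊓ imageSubobject ((Z k).arrow.app (op q))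
  have hmono : ∀ {k k' : ℕ} (_ : k ≤ k') (q : ℕ),
      imageSubobject ((Z k).arrow.app (op q)) ≤ imageSubobject ((Z k').arrow.app (op q)) :=
    fun h q => image_le_of_mem (by
      rw [← Subobject.ofLE_arrow (Z.monotone h), NatTrans.comp_app]
      exact mem_comp (mem_image _) _)
  have hgr : ∀ k, IsGrSub J X (M k) := by
    intro k
    refine ⟨fun q => inf_le_left, fun p q a ha => image_le_of_mem ?_⟩
    let y := ((Subobject.pullback (tr X (Nat.le_add_left q p))).obj (M k q)).arrow
    have hy : Mem (M k q) (y ≫ tr X (Nat.le_add_left q p)) := (mem_pullback _ _ _).mp (mem_arrow _)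
    refine mem_inf ?_ ?_
    · have hF : Mem (Fsub X q (p + q)) y := mem_Fsub X q (p + q) (by omega) y fun i hi hin => by
        rw [← tr_tr X (show i ≤ q by omega) (Nat.le_add_left q p), ← Category.assoc]
        exact comp_tr_of_mem_Fsub X hi _ (mem_of_le inf_le_left hy)
      show Mem _ (y ≫ _)
      rw [← Abelian.monoLift_comp _ y hF, Category.assoc]
      exact mem_comp (mem_of_le ((isAdapted_iff J X).mp hadapt (p + q) p q a ha) (mem_image _)) _
    · obtain ⟨P, π, hπ, z, hz⟩ := mem_image_iff.mp (mem_of_le inf_le_right hy)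
      haveI := hZ k q (p + q) (Nat.le_add_left q p)
      obtain ⟨P', π', hπ', z', hz'⟩ := surjective_up_to_refinements_of_epi
        (tr (Subobject.underlying.obj (Z k)) (Nat.le_add_left q p)) z
      obtain ⟨β, hβ⟩ := exists_mul_map hX.1 (Nat.le_add_left q p) le_rfl ha
      refine mem_of_epi (π' ≫ π) ?_
      have e : (π' ≫ π) ≫ y ≫ (a • 𝟙 (X.obj (op (p + q)))) =
          (z' ≫ (a • 𝟙 _)) ≫ (Z k).arrow.app (op (p + q)) := by
        rw [← hβ, Category.assoc, reassoc_of% hz, reassoc_of% hz', reassoc_of% (tr_app (Z k).arrow),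
          hβ]
        simp only [Linear.comp_smul, Category.comp_id, Linear.smul_comp, Category.assoc,
          Category.id_comp]
      rw [e]
      exact mem_comp (mem_image _) _
  obtain ⟨k₀, hk₀⟩ := grSub_stabilize hX M hgr fun k k' h q => inf_le_inf_left _ (hmono h q)
  refine ⟨k₀, fun k hk => le_antisymm ?_ (Z.monotone hk)⟩
  have hM : ∀ q, M k q = M k₀ q := fun q => congrFun (hk₀ k hk) q
  have key : ∀ q, Mem (imageSubobject ((Z k₀).arrow.app (op q))) ((Z k).arrow.app (op q)) := by
    intro q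
    induction q with
    | zero =>
      exact mem_of_le ((hM 0).le.trans inf_le_right) (mem_inf
        (mem_of_le le_top (mem_image _)) (mem_image _))
    | succ q ih =>
      let f := tr X (Nat.le_succ q)
      have hxf : Mem (imageSubobject ((Z k₀).arrow.app (op q)))
          ((Z k).arrow.app (op (q + 1)) ≫ f) := by
        rw [← tr_app (Z k).arrow]
        exact mem_comp ih _
      obtain ⟨P, π, hπ, z, hz⟩ := mem_image_iff.mp hxf
      haveI := hZ k₀ q (q + 1) (Nat.le_succ q)
      obtain ⟨P', π', hπ', z', hz'⟩ := surjective_up_to_refinements_of_epi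
        (tr (Subobject.underlying.obj (Z k₀)) (Nat.le_succ q)) z
      have hd : Mem (M k (q + 1))
          ((π' ≫ π) ≫ (Z k).arrow.app (op (q + 1)) - z' ≫ (Z k₀).arrow.app (op (q + 1))) := by
        refine mem_inf (mem_Fsub X (q + 1) (q + 1) (by omega) _ fun i hi hin => ?_)
          (mem_sub (mem_comp (mem_image _) _) (mem_of_le (hmono hk _) (mem_comp (mem_image _) _)))
        obtain rfl : i = q := by omega
        rw [Preadditive.sub_comp, Category.assoc, Category.assoc, Category.assoc, hz,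
          ← tr_app (Z k₀).arrow, reassoc_of% hz', sub_self]
      refine mem_of_epi (π' ≫ π) ?_
      rw [show (π' ≫ π) ≫ (Z k).arrow.app (op (q + 1)) =
        ((π' ≫ π) ≫ (Z k).arrow.app (op (q + 1)) - z' ≫ (Z k₀).arrow.app (op (q + 1))) +
          z' ≫ (Z k₀).arrow.app (op (q + 1)) by rw [sub_add_cancel]]
      exact mem_add (mem_of_le ((hM _).le.trans inf_le_right) hd) (mem_comp (mem_image _) _)
  have hl : ∀ l, ∃ g, g ≫ (Z k₀).arrow.app l = (Z k).arrow.app l := fun l => by
    obtain ⟨P, π, hπ, z, hz⟩ := mem_image_iff.mp (key l.unop)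
    refine ⟨Abelian.epiDesc π z ?_, ?_⟩
    · rw [← cancel_mono ((Z k₀).arrow.app l), zero_comp, Category.assoc]
      exact (congrArg (kernel.ι π ≫ ·) hz).symm.trans (by rw [kernel.condition_assoc, zero_comp])
    · rw [← cancel_epi π, Abelian.comp_epiDesc_assoc]
      exact hz.symm
  choose g hg using hl
  refine Subobject.le_of_comm (X := Z k) (Y := Z k₀) { app := g, naturality := fun a b f => ?_ } ?_
  · rw [← cancel_mono ((Z k₀).arrow.app b), Category.assoc, Category.assoc, hg,
      (Z k).arrow.naturality, (Z k₀).arrow.naturality, reassoc_of% (hg a)]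
  · ext l
    exact hg l

theorem noetherian_of_isARIso {X X' : PS C} (u : X' ⟶ X) (hu : IsARIso u)
    (hX' : IsAdic J X') (hX : ∀ n, IsNoetherianObject (X.obj (op n))) : IsAdicNoeth J X' := by
  refine ⟨hX', fun n => ?_⟩
  obtain ⟨r, w, h₁, -⟩ := exists_inverse u hu
  haveI : Epi (u.app (op (n + r)) ≫ w.app (op n)) := by
    rw [h₁ n]; exact isStrict_of_isAdic hX' _ _ _
  haveI : Epi (w.app (op n)) := epi_of_epi (u.app (op (n + r))) _
  haveI : IsNoetherianObject (((shift C r).obj X).obj (op n)) := hX (n + r)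
  exact NoethObj.isNoetherian_of_epi (w.app (op n))

theorem isARAdicNoeth_kernel {X Y : PS C} (u : X ⟶ Y) (hX : IsARAdicNoeth J X)
    (hY : IsARAdicNoeth J Y) : IsARAdicNoeth J (kernel u) := by
  haveI : ∀ k, Mono ((kernel.ι u).app k) := fun k =>
    ((evaluation ℕᵒᵖ C).obj k).map_mono (kernel.ι u)
  have kK : TermKilled J (kernel u) := fun n a ha => by
    rw [← cancel_mono ((kernel.ι u).app (op n)), zero_comp, Linear.smul_comp, Category.id_comp,
      homKilled_of_killed (hX.1.1 n) _ a ha]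
  have nK : ∀ n, IsNoetherianObject ((kernel u).obj (op n)) := fun n =>
    haveI := hX.2 n
    isNoetherianObject_of_mono ((kernel.ι u).app (op n))
  obtain ⟨kX, X', u₁, hX', hu₁⟩ := hX.1
  obtain ⟨kY, Y', uY, hY', huY⟩ := hY.1
  have nX' := noetherian_of_isARIso u₁ hu₁ hX' hX.2
  have nY' := noetherian_of_isARIso uY huY hY' hY.2
  obtain ⟨⟨a₁, ha₁⟩, ⟨b₁, hb₁⟩⟩ := (isARIso_iff u₁).mp hu₁
  obtain ⟨⟨aY, haY⟩, -⟩ := (isARIso_iff uY).mp huY
  obtain ⟨r, w, -, hw⟩ := exists_inverse uY huY
  obtain ⟨g, hg, -⟩ := existsUnique_of_shift hX' hY'.1 r ((shift C r).map (u₁ ≫ u) ≫ w)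
  have hgu : g ≫ uY = u₁ ≫ u := by
    ext ⟨n⟩
    haveI := isStrict_of_isAdic hX' n (n + r) (Nat.le_add_right n r)
    rw [← cancel_epi (sm X' r n), NatTrans.comp_app, ← Category.assoc, ← hg n]
    exact (Category.assoc _ _ _).trans
      ((congrArg (_ ≫ ·) (hw n)).trans (sm_app (u₁ ≫ u) r n).symm)
  have hS : (ShortComplex.mk (kernel.ι g) (Abelian.factorThruImage g)
      (by rw [← cancel_mono (Abelian.image.ι g), Category.assoc, zero_comp, Abelian.image.fac,
        kernel.condition])).ShortExact :=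
    { exact := ShortComplex.exact_of_f_is_kernel _ (KernelFork.IsLimit.ofι' _ _ fun {W} k hk => by
        have hk' : k ≫ g = 0 := by
          rw [← Abelian.image.fac g, ← Category.assoc, hk, zero_comp]
        exact ⟨kernel.lift g k hk', kernel.lift_ι _ _ _⟩)
      mono_f := inferInstanceAs (Mono (kernel.ι g))
      epi_g := inferInstanceAs (Epi (Abelian.factorThruImage g)) }
  have hI : IsStrict (Abelian.image g) := by
    intro n m h
    haveI : Epi ((Abelian.factorThruImage g).app (op n)) :=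
      ((evaluation ℕᵒᵖ C).obj (op n)).map_epi (Abelian.factorThruImage g)
    haveI : Epi ((Abelian.factorThruImage g).app (op m)) :=
      ((evaluation ℕᵒᵖ C).obj (op m)).map_epi (Abelian.factorThruImage g)
    haveI := isStrict_of_isAdic hX' n m h
    haveI : Epi ((Abelian.factorThruImage g).app (op m) ≫ tr (Abelian.image g) h) := by
      rw [← tr_app]; infer_instance
    exact epi_of_epi ((Abelian.factorThruImage g).app (op m)) _
  have hK' : IsMLAR (kernel g) := isMLAR_X₁ hS hX'.1
    (isMLAR_of_isStrict (isStrict_of_isAdic hX'))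
    (isARAdicNoeth_of_mono nY' (Abelian.image.ι g) hI).1
  obtain ⟨c, hc⟩ := (isMLAR_iff _).mp hK'
  haveI : Mono (imι (kernel g) c ≫ kernel.ι g) := mono_comp _ _
  obtain ⟨-, W, v, hW, hv⟩ :=
    (isARAdicNoeth_of_mono nX' (imι (kernel g) c ≫ kernel.ι g) (imSys_strict _ c hc)).1
  have hl0 : (kernel.ι g ≫ u₁) ≫ u = 0 := by
    rw [Category.assoc, ← hgu, kernel.condition_assoc, zero_comp]
  let l : kernel g ⟶ kernel u := kernel.lift u _ hl0
  have hl : ∀ k, l.app k ≫ (kernel.ι u).app k = (kernel.ι g).app k ≫ u₁.app k := fun k =>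
    congrArg (fun m => NatTrans.app m k) (kernel.lift_ι u _ hl0)
  haveI : ∀ k, Mono ((kernel.ι g).app k) := fun k =>
    ((evaluation ℕᵒᵖ C).obj k).map_mono (kernel.ι g)
  have hliso : IsARIso l := by
    refine (isARIso_iff l).mpr ⟨⟨a₁, fun n P x hx => ?_⟩, ⟨aY + b₁, fun n => ?_⟩⟩
    · rw [← cancel_mono ((kernel.ι g).app (op n)), zero_comp, Category.assoc, sm_app,
        ← Category.assoc]
      refine ha₁ n _ _ ?_
      rw [Category.assoc, ← hl, reassoc_of% hx, zero_comp]
    · let h₁ : n + aY + b₁ ≤ n + (aY + b₁) := by omega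
      obtain ⟨P, π, hπ, x', hx'⟩ := (hb₁ (n + aY)).comp_left
        (tr (kernel u) h₁ ≫ (kernel.ι u).app (op (n + aY + b₁)))
      have h0 : (x' ≫ g.app (op (n + aY))) ≫ sm Y' aY n = 0 := by
        refine haY n P _ ?_
        rw [Category.assoc, ← NatTrans.comp_app, hgu, NatTrans.comp_app, ← reassoc_of% hx']
        rw [← reassoc_of% (sm_app (kernel.ι u) b₁ (n + aY)), comp_app_zero (kernel.condition u),
          comp_zero, comp_zero, comp_zero]
      rw [Category.assoc, ← sm_app, ← Category.assoc] at h0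
      have hex := (ShortComplex.exact_of_f_is_kernel (ShortComplex.mk (kernel.ι g) g
        (kernel.condition g)) (kernelIsKernel g)).map ((evaluation ℕᵒᵖ C).obj (op n))
      obtain ⟨P', π', hπ', z, hz'⟩ : ∃ (P' : C) (π' : P' ⟶ P) (_ : Epi π')
          (z : P' ⟶ (kernel g).obj (op n)),
          π' ≫ x' ≫ sm X' aY n = z ≫ (kernel.ι g).app (op n) :=
        hex.exact_up_to_refinements (x' ≫ sm X' aY n) h0
      refine ⟨P', π' ≫ π, inferInstance, z, ?_⟩
      rw [← cancel_mono ((kernel.ι u).app (op n)), Category.assoc, Category.assoc, Category.assoc,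
        hl, ← reassoc_of% hz', sm_app]
      rw [show (kernel.ι u).app (op (n + (aY + b₁))) ≫ sm X (aY + b₁) n =
        tr (kernel u) h₁ ≫ (kernel.ι u).app (op (n + aY + b₁)) ≫ sm X b₁ (n + aY) ≫ sm X aY n by
          rw [reassoc_of% (tr_app (kernel.ι u) h₁), tr_tr, tr_tr]]
      simp only [Category.assoc] at hx'
      rw [reassoc_of% hx', ← sm_app u₁ aY n]
  refine ⟨⟨kK, W, v ≫ imι (kernel g) c ≫ l, hW, ?_⟩, nK⟩
  exact isARIso_comp v _ hv (isARIso_comp _ l
    ((isARIso_iff _).mpr ⟨imι_kerNull _ c, imι_cokNull _ c⟩) hliso)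

theorem isARAdicNoeth_cokernel {X Y : PS C} (u : X ⟶ Y) (hX : IsARAdicNoeth J X)
    (hY : IsARAdicNoeth J Y) : IsARAdicNoeth J (cokernel u) := by
  haveI : ∀ k, Epi ((cokernel.π u).app k) := fun k =>
    ((evaluation ℕᵒᵖ C).obj k).map_epi (cokernel.π u)
  have kQ : TermKilled J (cokernel u) := fun n =>
    killedBy_of_epi ((cokernel.π u).app (op n)) (hY.1.1 n)
  have hS₁ : (ShortComplex.mk (kernel.ι u) (Abelian.factorThruImage u)
      (by rw [← cancel_mono (Abelian.image.ι u), Category.assoc, zero_comp, Abelian.image.fac,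
        kernel.condition])).ShortExact :=
    { exact := ShortComplex.exact_of_f_is_kernel _ (KernelFork.IsLimit.ofι' _ _ fun {W} k hk => by
        have hk' : k ≫ u = 0 := by
          rw [← Abelian.image.fac u, ← Category.assoc, hk, zero_comp]
        exact ⟨kernel.lift u k hk', kernel.lift_ι _ _ _⟩)
      mono_f := inferInstanceAs (Mono (kernel.ι u))
      epi_g := inferInstanceAs (Epi (Abelian.factorThruImage u)) }
  obtain ⟨-, X', u₁, hX', hu₁⟩ := hX.1
  have hI : IsMLAR (Abelian.image u) := isMLAR_X₃ _ hS₁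
    ((isMLAR_iff_exists_strict X).mpr ⟨X', u₁, isStrict_of_isAdic hX', hu₁⟩)
  have hS₂ : (ShortComplex.mk (Abelian.image.ι u) (cokernel.π u)
      (kernel.condition (cokernel.π u))).ShortExact :=
    { exact := ShortComplex.exact_of_f_is_kernel _ (kernelIsKernel _)
      mono_f := inferInstanceAs (Mono (Abelian.image.ι u))
      epi_g := inferInstanceAs (Epi (cokernel.π u)) }
  refine ⟨isARAdic_X₃ hS₂ kQ hI hY.1, fun n => ?_⟩
  haveI := hY.2 n
  exact NoethObj.isNoetherian_of_epi ((cokernel.π u).app (op n))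

theorem isARAdicNoeth_X₁ {S : ShortComplex (PS C)} (hS : S.ShortExact)
    (h₂ : IsARAdicNoeth J S.X₂) (h₃ : IsARAdicNoeth J S.X₃) : IsARAdicNoeth J S.X₁ := by
  obtain ⟨⟨-, W, v, hW, hv⟩, -⟩ := isARAdicNoeth_kernel S.g h₂ h₃
  let e : kernel S.g ≅ S.X₁ :=
    limit.isoLimitCone ⟨KernelFork.ofι S.f S.zero, hS.fIsKernel⟩
  haveI := fun k => mono_app hS k
  have k₁ : TermKilled J S.X₁ := fun n a ha => by
    rw [← cancel_mono (S.f.app (op n)), zero_comp, Linear.smul_comp, Category.id_comp,
      homKilled_of_killed (h₂.1.1 n) _ a ha]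
  have he : IsARIso e.hom := (isARIso_iff _).mpr
    ⟨⟨0, fun n P x hx => by
      have h0 : x = 0 := zero_of_comp_mono (e.hom.app (op (n + 0))) hx
      rw [h0, zero_comp]⟩,
    ⟨0, fun n => .of_eq (sm S.X₁ 0 n ≫ e.inv.app (op n)) (by
      rw [Category.assoc, ← NatTrans.comp_app, e.inv_hom_id]; exact (Category.comp_id _).symm)⟩⟩
  refine ⟨⟨k₁, W, v ≫ e.hom, hW, isARIso_comp v _ hv he⟩, fun n => ?_⟩
  haveI := h₂.2 n
  exact isNoetherianObject_of_mono (S.f.app (op n))

end Groth.Agent.ARSysLib
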